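import Groth.Agent.L01.Wiebe.Diagonal
import Groth.Agent.L07.SyntRel
import Groth.Agent.L07.KoszulLocal
import Groth.Agent.L07.KoszulVars
import Mathlib.RingTheory.TensorProduct.MvPolynomial
import Mathlib.Algebra.MvPolynomial.PDeriv
import Mathlib.RingTheory.QuasiFinite.Basic
import Mathlib.RingTheory.KrullDimension.Zero

/-!
Relative global complete intersections of relative dimension zero: the diagonal and the Jacobian.
-/

set_option autoImplicit false
set_option linter.style.haveILetI false
set_option linter.unusedSectionVars false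
set_option backward.isDefEq.respectTransparency.types false
set_option maxSynthPendingDepth 3

universe u

namespace Groth.L01.Wiebe

open TensorProduct MvPolynomial

variable {A : Type u} [CommRing A] {n : ℕ}

theorem isKoszulRegularSeq_of_isRelGCI {F : Fin n → MvPolynomial (Fin n) A} (h : Synt.IsRelGCI A n n F) :
    LCI.IsKoszulRegularSeq (MvPolynomial (Fin n) A) (List.ofFn F) := by
  refine Groth.L07.KoszulLocal.isKoszulRegularSeq_of_local _ fun P _ hP => ?_
  rw [Groth.L07.QReg.ofList_ofFn] at hP
  exact (RingTheory.Sequence.isWeaklyRegular_map_algebraMap_iff _ _ _).mp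
    (Groth.L07.SyntRel.transversal_of_isRelGCI h P hP).1.toIsWeaklyRegular

theorem isRelGCI_of_quasiFinite (F : Fin n → MvPolynomial (Fin n) A)
    [Algebra.QuasiFinite A (MvPolynomial (Fin n) A ⧸ Ideal.span (Set.range F))] : Synt.IsRelGCI A n n F := by
  intro p hp
  refine ⟨le_rfl, ?_⟩
  rw [Nat.sub_self, Nat.cast_zero]
  haveI := hp
  exact ringKrullDimZero_iff_ringKrullDim_eq_zero.mp inferInstance

/-- `A[X] ⊗ R = R[X]` -/
noncomputable def polyEquiv (A : Type u) [CommRing A] (n : ℕ) (R : Type u) [CommRing R] [Algebra A R] :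
    MvPolynomial (Fin n) A ⊗[A] R ≃ₐ[A] MvPolynomial (Fin n) R :=
  (Algebra.TensorProduct.comm A (MvPolynomial (Fin n) A) R).trans
    ((MvPolynomial.algebraTensorAlgEquiv A R).restrictScalars A)

theorem polyEquiv_tmul_one {R : Type u} [CommRing R] [Algebra A R] (q : MvPolynomial (Fin n) A) :
    polyEquiv A n R (q ⊗ₜ[A] (1 : R)) = MvPolynomial.map (algebraMap A R) q := by
  simp [polyEquiv]

theorem polyEquiv_one_tmul {R : Type u} [CommRing R] [Algebra A R] (b : R) :
    polyEquiv A n R ((1 : MvPolynomial (Fin n) A) ⊗ₜ[A] b) = MvPolynomial.C b := by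
  simp [polyEquiv, MvPolynomial.algebraMap_eq, Algebra.smul_def]

theorem isKoszulRegularSeq_mapC {F : Fin n → MvPolynomial (Fin n) A}
    (hF : LCI.IsKoszulRegularSeq (MvPolynomial (Fin n) A) (List.ofFn F))
    (R : Type u) [CommRing R] [Algebra A R] [Module.Flat A R] :
    LCI.IsKoszulRegularSeq (MvPolynomial (Fin n) R) (List.ofFn fun i => MvPolynomial.map (algebraMap A R) (F i)) := by
  have h := Groth.L07.KoszulFlat.isKoszulRegularSeq_map
    (Algebra.TensorProduct.includeLeftRingHom : MvPolynomial (Fin n) A →+* MvPolynomial (Fin n) A ⊗[A] R)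
    (show (algebraMap (MvPolynomial (Fin n) A) (MvPolynomial (Fin n) A ⊗[A] R)).Flat from
      RingHom.flat_algebraMap_iff.mpr inferInstance) _ hF
  have h2 := Groth.L07.KoszulFlat.isKoszulRegularSeq_map ((polyEquiv A n R).toRingEquiv : _ →+* MvPolynomial (Fin n) R)
    (RingHom.Flat.of_bijective (polyEquiv A n R).bijective) _ h
  rw [List.map_map, List.map_ofFn] at h2
  refine cast (congrArg (fun l => LCI.IsKoszulRegularSeq _ l) (congrArg List.ofFn (funext fun i => ?_))) h2
  exact polyEquiv_tmul_one (F i)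

section Translate

variable {R : Type u} [CommRing R] (x : Fin n → R)

/-- translation -/
noncomputable def translate : MvPolynomial (Fin n) R ≃ₐ[R] MvPolynomial (Fin n) R :=
  AlgEquiv.ofAlgHom (MvPolynomial.aeval fun j => X j - C (x j)) (MvPolynomial.aeval fun j => X j + C (x j))
    (by ext j; simp [MvPolynomial.algebraMap_eq]) (by ext j; simp [MvPolynomial.algebraMap_eq])

theorem isKoszulRegularSeq_sub : LCI.IsKoszulRegularSeq (MvPolynomial (Fin n) R)
    (List.ofFn fun j => X j - C (x j)) := by
  have h := Groth.L07.KoszulFlat.isKoszulRegularSeq_map ((translate x).toRingEquiv : _ →+* MvPolynomial (Fin n) R)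
    (RingHom.Flat.of_bijective (translate x).bijective) _ (Groth.L07.KoszulVars.isKoszulRegularSeq_X R n)
  rw [List.map_ofFn] at h
  refine cast (congrArg (fun l => LCI.IsKoszulRegularSeq _ l) (congrArg List.ofFn (funext fun i => ?_))) h
  show translate x (X i) = _
  simp [translate]

theorem ker_eval : Ideal.span (Set.range fun j => X j - C (x j)) = RingHom.ker (MvPolynomial.eval x) := by
  refine le_antisymm (Ideal.span_le.mpr ?_) fun y hy => ?_
  · rintro _ ⟨j, rfl⟩
    simp [RingHom.mem_ker]
  · have key : ∀ y : MvPolynomial (Fin n) R, y - C (eval x y) ∈ Ideal.span (Set.range fun j => X j - C (x j)) := by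
      intro y
      induction y using MvPolynomial.induction_on with
      | C r => simp
      | add a b ha hb =>
        rw [map_add, map_add, add_sub_add_comm]
        exact Submodule.add_mem _ ha hb
      | mul_X a j ha =>
        rw [map_mul, map_mul, eval_X, show a * X j - C (eval x a) * C (x j) =
          (a - C (eval x a)) * X j + C (eval x a) * (X j - C (x j)) by ring]
        exact Submodule.add_mem _ (Ideal.mul_mem_right _ _ ha) (Ideal.mul_mem_left _ _ (Ideal.subset_span ⟨j, rfl⟩))
    have := key y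
    rwa [RingHom.mem_ker.mp hy, map_zero, sub_zero] at this

/-- coefficients at the point are partial derivatives -/
theorem eval_coeff {F : MvPolynomial (Fin n) R} (c : Fin n → MvPolynomial (Fin n) R)
    (h : F = ∑ j, c j * (X j - C (x j))) (j : Fin n) : eval x (pderiv j F) = eval x (c j) := by
  rw [h, map_sum, map_sum]
  rw [Finset.sum_eq_single j]
  · simp
  · intro k _ hk
    simp [Pi.single_eq_of_ne hk]
  · simp

end Translate

variable (F : Fin n → MvPolynomial (Fin n) A)

/-- the algebra -/
abbrev Bq : Type u := MvPolynomial (Fin n) A ⧸ Ideal.span (Set.range F)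

/-- the coordinates -/
noncomputable def pt : Fin n → Bq F := fun j => Ideal.Quotient.mk _ (X j)

theorem aeval_pt (q : MvPolynomial (Fin n) A) : MvPolynomial.aeval (pt F) q = Ideal.Quotient.mk _ q :=
  AlgHom.congr_fun (show MvPolynomial.aeval (pt F) = Ideal.Quotient.mkₐ A (Ideal.span (Set.range F)) from
    MvPolynomial.algHom_ext fun j => by simp [pt]) q

theorem eval_map_pt (q : MvPolynomial (Fin n) A) :
    eval (pt F) (MvPolynomial.map (algebraMap A (Bq F)) q) = Ideal.Quotient.mk _ q := by
  rw [← aeval_pt, eval_map]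
  rfl

theorem exists_coeff : ∃ c : Matrix (Fin n) (Fin n) (MvPolynomial (Fin n) (Bq F)),
    ∀ i, MvPolynomial.map (algebraMap A (Bq F)) (F i) = ∑ j, c i j * (X j - C (pt F j)) := by
  have h : ∀ i, MvPolynomial.map (algebraMap A (Bq F)) (F i) ∈ Ideal.span (Set.range fun j => X j - C (pt F j)) := by
    intro i
    rw [ker_eval, RingHom.mem_ker, eval_map_pt, Ideal.Quotient.eq_zero_iff_mem]
    exact Ideal.subset_span ⟨i, rfl⟩
  choose c hc using fun i => Ideal.mem_span_range_iff_exists_fun.mp (h i)
  exact ⟨Matrix.of c, fun i => (hc i).symm⟩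

/-- the coefficient matrix -/
noncomputable def coeffMat : Matrix (Fin n) (Fin n) (MvPolynomial (Fin n) (Bq F)) := (exists_coeff F).choose

theorem coeffMat_spec (i : Fin n) :
    MvPolynomial.map (algebraMap A (Bq F)) (F i) = ∑ j, coeffMat F i j * (X j - C (pt F j)) :=
  (exists_coeff F).choose_spec i

/-- the Jacobian determinant -/
noncomputable def jac : Bq F :=
  Ideal.Quotient.mk (Ideal.span (Set.range F)) (Matrix.det (Matrix.of fun i j => MvPolynomial.pderiv j (F i)))

theorem eval_det_coeffMat : eval (pt F) (coeffMat F).det = jac F := by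
  rw [jac, RingHom.map_det, RingHom.map_det]
  congr 1
  funext i j
  show eval (pt F) (coeffMat F i j) = Ideal.Quotient.mk _ (pderiv j (F i))
  rw [← eval_coeff (pt F) (coeffMat F i) (coeffMat_spec F i) j, pderiv_map, eval_map_pt]

/-- `B[X] → B ⊗ B` -/
noncomputable def proj₂ : MvPolynomial (Fin n) (Bq F) →ₐ[A] Bq F ⊗[A] Bq F :=
  (Algebra.TensorProduct.map (Ideal.Quotient.mkₐ A (Ideal.span (Set.range F))) (AlgHom.id A (Bq F))).comp
    (polyEquiv A n (Bq F)).symm.toAlgHom

/-- the generator of the annihilator of the diagonal -/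
noncomputable def delta : Bq F ⊗[A] Bq F := proj₂ F (coeffMat F).det

theorem proj₂_polyEquiv (z : MvPolynomial (Fin n) A ⊗[A] Bq F) :
    proj₂ F (polyEquiv A n (Bq F) z) =
      Algebra.TensorProduct.map (Ideal.Quotient.mkₐ A (Ideal.span (Set.range F))) (AlgHom.id A (Bq F)) z := by
  show Algebra.TensorProduct.map _ _ ((polyEquiv A n (Bq F)).symm (polyEquiv A n (Bq F) z)) = _
  rw [AlgEquiv.symm_apply_apply]

theorem productMap_eq (z : MvPolynomial (Fin n) A ⊗[A] Bq F) :
    Algebra.TensorProduct.productMap (Ideal.Quotient.mkₐ A (Ideal.span (Set.range F))) (AlgHom.id A (Bq F)) z =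
      eval (pt F) (polyEquiv A n (Bq F) z) := by
  induction z using TensorProduct.induction_on with
  | zero => simp
  | add a b ha hb => simp [ha, hb]
  | tmul q b =>
    rw [show q ⊗ₜ[A] b = (q ⊗ₜ[A] (1 : Bq F)) * ((1 : MvPolynomial (Fin n) A) ⊗ₜ[A] b) by simp,
      map_mul (polyEquiv A n (Bq F)), polyEquiv_tmul_one, polyEquiv_one_tmul, map_mul (eval (pt F)), eval_map_pt, eval_C]
    simp

theorem proj₂_surjective : Function.Surjective (proj₂ F) :=
  (Algebra.TensorProduct.map_surjective _ _ (Ideal.Quotient.mkₐ_surjective A _) Function.surjective_id).comp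
    (polyEquiv A n (Bq F)).symm.surjective

theorem proj₂_eq_zero_iff (y : MvPolynomial (Fin n) (Bq F)) :
    proj₂ F y = 0 ↔ y ∈ Ideal.span (Set.range fun i => MvPolynomial.map (algebraMap A (Bq F)) (F i)) := by
  obtain ⟨z, rfl⟩ := (polyEquiv A n (Bq F)).surjective y
  rw [proj₂_polyEquiv]
  have h := Algebra.TensorProduct.map_ker (R := A) (S := A) (Ideal.Quotient.mkₐ A (Ideal.span (Set.range F)))
    (AlgHom.id A (Bq F)) (Ideal.Quotient.mkₐ_surjective A _) Function.surjective_id
  have hk0 : RingHom.ker (AlgHom.id A (Bq F)) = ⊥ :=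
    (RingHom.injective_iff_ker_eq_bot _).mp Function.injective_id
  have hk1 : RingHom.ker (Ideal.Quotient.mkₐ A (Ideal.span (Set.range F))) = Ideal.span (Set.range F) :=
    Ideal.Quotient.mkₐ_ker A _
  rw [hk0, Ideal.map_bot, sup_bot_eq, hk1, Ideal.map_span, ← Set.range_comp] at h
  rw [← RingHom.mem_ker, h, show (Set.range fun i => MvPolynomial.map (algebraMap A (Bq F)) (F i)) =
    polyEquiv A n (Bq F) '' Set.range (fun i => (F i) ⊗ₜ[A] (1 : Bq F)) by
      rw [← Set.range_comp]
      exact congrArg Set.range (funext fun i => (polyEquiv_tmul_one (F i)).symm), ← Ideal.map_span]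
  exact (Ideal.mem_map_iff_of_surjective _ (polyEquiv A n (Bq F)).surjective).trans
    ⟨fun ⟨w, hw, e⟩ => (polyEquiv A n (Bq F)).injective e ▸ hw, fun hw => ⟨z, hw, rfl⟩⟩ |>.symm

theorem lmul_proj₂ (y : MvPolynomial (Fin n) (Bq F)) :
    Algebra.TensorProduct.lmul' (S := Bq F) A (proj₂ F y) = eval (pt F) y := by
  obtain ⟨z, rfl⟩ := (polyEquiv A n (Bq F)).surjective y
  rw [proj₂_polyEquiv, ← productMap_eq]
  induction z using TensorProduct.induction_on with
  | zero => simp
  | add a b ha hb => simp [ha, hb]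
  | tmul q b => simp

theorem proj₂_C (b : Bq F) : proj₂ F (C b) = 1 ⊗ₜ[A] b := by
  rw [← polyEquiv_one_tmul (A := A) (n := n), proj₂_polyEquiv]
  simp

theorem lmul_delta : Algebra.TensorProduct.lmul' (S := Bq F) A (delta F) = jac F := by
  rw [delta, lmul_proj₂, eval_det_coeffMat]

variable (hF : LCI.IsKoszulRegularSeq (MvPolynomial (Fin n) A) (List.ofFn F)) [Module.Flat A (Bq F)]
include hF

theorem annihilator_eq :
    Submodule.annihilator (RingHom.ker (Algebra.TensorProduct.lmul' (S := Bq F) A)) = Ideal.span {delta F} ∧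
    ∀ z, z * delta F = 0 → Algebra.TensorProduct.lmul' (S := Bq F) A z = 0 := by
  have hW := fun y => wiebe (fun i => MvPolynomial.map (algebraMap A (Bq F)) (F i)) (fun j => X j - C (pt F j))
    (coeffMat F) (coeffMat_spec F) (isKoszulRegularSeq_mapC hF (Bq F)) (isKoszulRegularSeq_sub (pt F)) y
  constructor
  · apply le_antisymm
    · intro z hz
      obtain ⟨y, rfl⟩ := proj₂_surjective F z
      have hy : ∀ j, y * (X j - C (pt F j)) ∈ Ideal.span (Set.range fun i => MvPolynomial.map (algebraMap A (Bq F)) (F i)) := by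
        intro j
        rw [← proj₂_eq_zero_iff, map_mul]
        exact Submodule.mem_annihilator.mp hz _ (RingHom.mem_ker.mpr (by rw [lmul_proj₂]; simp))
      obtain ⟨u, hu, v, hv, rfl⟩ := Submodule.mem_sup.mp ((hW y).1 hy)
      obtain ⟨q, rfl⟩ := Ideal.mem_span_singleton'.mp hv
      rw [map_add, (proj₂_eq_zero_iff F u).mpr hu, zero_add, map_mul]
      exact Ideal.mem_span_singleton'.mpr ⟨proj₂ F q, rfl⟩
    · rw [Ideal.span_singleton_le_iff_mem, Submodule.mem_annihilator]
      intro z hz
      obtain ⟨y, rfl⟩ := proj₂_surjective F z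
      have hy : y ∈ Ideal.span (Set.range fun j => X j - C (pt F j)) := by
        rw [ker_eval, RingHom.mem_ker, ← lmul_proj₂]
        exact RingHom.mem_ker.mp hz
      show proj₂ F (coeffMat F).det * proj₂ F y = 0
      rw [← map_mul, proj₂_eq_zero_iff]
      refine Submodule.span_induction (p := fun y _ => (coeffMat F).det * y ∈ _) ?_ ?_ ?_ ?_ hy
      · rintro _ ⟨j, rfl⟩
        exact det_mul_mem _ _ _ (coeffMat_spec F) j
      · rw [mul_zero]; exact Submodule.zero_mem _
      · intro a b _ _ ha hb
        rw [mul_add]; exact Submodule.add_mem _ ha hb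
      · intro a b _ hb
        rw [smul_eq_mul, mul_left_comm]; exact Ideal.mul_mem_left _ a hb
  · intro z hz
    obtain ⟨y, rfl⟩ := proj₂_surjective F z
    rw [delta, ← map_mul, proj₂_eq_zero_iff] at hz
    have := (hW y).2 hz
    rw [ker_eval, RingHom.mem_ker] at this
    rw [lmul_proj₂, this]

theorem noetherDifferent_eq :
    Ideal.map (Algebra.TensorProduct.lmul' (S := Bq F) A)
      (Submodule.annihilator (RingHom.ker (Algebra.TensorProduct.lmul' (S := Bq F) A))) = Ideal.span {jac F} := by
  rw [(annihilator_eq F hF).1, Ideal.map_span, Set.image_singleton, lmul_delta]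

end Groth.L01.Wiebe
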