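import Groth.Agent.L01.Wiebe.Main
import Mathlib.LinearAlgebra.TensorProduct.RightExactness
import Mathlib.RingTheory.TensorProduct.Maps
import Mathlib.RingTheory.Flat.Stability

/-!
The annihilator of the diagonal of a relative global complete intersection.
-/

set_option autoImplicit false
set_option linter.style.haveILetI false
set_option backward.isDefEq.respectTransparency.types false

universe u

namespace Groth.L01.Wiebe

open TensorProduct

theorem diagonal {A P : Type u} [CommRing A] [CommRing P] [Algebra A P]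
    {n : ℕ} (f : Fin n → P) (hf : LCI.IsKoszulRegularSeq P (List.ofFn f))
    [Module.Flat A (P ⧸ Ideal.span (Set.range f))]
    (g : Fin n → P ⊗[A] (P ⧸ Ideal.span (Set.range f)))
    (hg : LCI.IsKoszulRegularSeq (P ⊗[A] (P ⧸ Ideal.span (Set.range f))) (List.ofFn g))
    (hgker : Ideal.span (Set.range g) = RingHom.ker (Algebra.TensorProduct.productMap
      (Ideal.Quotient.mkₐ A (Ideal.span (Set.range f))) (AlgHom.id A (P ⧸ Ideal.span (Set.range f)))))
    (c : Matrix (Fin n) (Fin n) (P ⊗[A] (P ⧸ Ideal.span (Set.range f))))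
    (hc : ∀ i, f i ⊗ₜ[A] (1 : P ⧸ Ideal.span (Set.range f)) = ∑ j, c i j * g j) :
    Submodule.annihilator (RingHom.ker
        (Algebra.TensorProduct.lmul' (S := P ⧸ Ideal.span (Set.range f)) A)) =
      Ideal.span {Algebra.TensorProduct.map (Ideal.Quotient.mkₐ A (Ideal.span (Set.range f)))
        (AlgHom.id A (P ⧸ Ideal.span (Set.range f))) (Matrix.det c)} ∧
    ∀ y, y * Algebra.TensorProduct.map (Ideal.Quotient.mkₐ A (Ideal.span (Set.range f)))
        (AlgHom.id A (P ⧸ Ideal.span (Set.range f))) (Matrix.det c) = 0 →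
      Algebra.TensorProduct.lmul' (S := P ⧸ Ideal.span (Set.range f)) A y = 0 := by
  let B := P ⧸ Ideal.span (Set.range f)
  let mk : P →ₐ[A] B := Ideal.Quotient.mkₐ A (Ideal.span (Set.range f))
  let F : Fin n → P ⊗[A] B := fun i => f i ⊗ₜ[A] (1 : B)
  let π : P ⊗[A] B →ₐ[A] B ⊗[A] B := Algebra.TensorProduct.map mk (AlgHom.id A B)
  have hmk : Function.Surjective mk := Ideal.Quotient.mkₐ_surjective A _
  have hπ : Function.Surjective π := Algebra.TensorProduct.map_surjective _ _ hmk Function.surjective_id
  let inc : P →+* P ⊗[A] B := Algebra.TensorProduct.includeLeftRingHom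
  have hker : ∀ y, π y = 0 ↔ y ∈ Ideal.span (Set.range F) := by
    intro y
    have h := Algebra.TensorProduct.map_ker (R := A) (S := A) mk (AlgHom.id A B) hmk Function.surjective_id
    have hk0 : RingHom.ker (AlgHom.id A B) = ⊥ :=
      (RingHom.injective_iff_ker_eq_bot _).mp Function.injective_id
    have hk1 : RingHom.ker mk = Ideal.span (Set.range f) := Ideal.Quotient.mkₐ_ker A _
    rw [hk0, Ideal.map_bot, sup_bot_eq, hk1, Ideal.map_span, ← Set.range_comp] at h
    rw [← RingHom.mem_ker]
    exact (SetLike.ext_iff.mp h y : _)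
  have hF : LCI.IsKoszulRegularSeq (P ⊗[A] B) (List.ofFn F) := by
    have := Groth.L07.KoszulFlat.isKoszulRegularSeq_map inc
      (show (algebraMap P (P ⊗[A] B)).Flat from RingHom.flat_algebraMap_iff.mpr inferInstance) _ hf
    rwa [List.map_ofFn] at this
  have hW := fun x => wiebe F g c hc hF hg x
  have hμ : ∀ y, Algebra.TensorProduct.lmul' (S := B) A (π y) =
      Algebra.TensorProduct.productMap mk (AlgHom.id A B) y := fun y => AlgHom.congr_fun
        (show (Algebra.TensorProduct.lmul' (S := B) A).comp π = Algebra.TensorProduct.productMap mk (AlgHom.id A B)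
          from Algebra.TensorProduct.ext' fun a b => by simp [π]) y
  have hgμ : ∀ y, y ∈ Ideal.span (Set.range g) ↔ Algebra.TensorProduct.lmul' (S := B) A (π y) = 0 := fun y => by
    rw [hgker, RingHom.mem_ker, hμ]
  constructor
  · apply le_antisymm
    · intro z hz
      obtain ⟨x, rfl⟩ := hπ z
      have hx : ∀ j, x * g j ∈ Ideal.span (Set.range F) := fun j => by
        rw [← hker, map_mul]
        exact Submodule.mem_annihilator.mp hz (π (g j)) (RingHom.mem_ker.mpr ((hgμ (g j)).mp (Ideal.subset_span ⟨j, rfl⟩)))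
      obtain ⟨u, hu, v, hv, rfl⟩ := Submodule.mem_sup.mp ((hW x).1 hx)
      obtain ⟨q, rfl⟩ := Ideal.mem_span_singleton'.mp hv
      rw [map_add, (hker u).mpr hu, zero_add, map_mul]
      exact Ideal.mem_span_singleton'.mpr ⟨π q, rfl⟩
    · rw [Ideal.span_singleton_le_iff_mem, Submodule.mem_annihilator]
      intro z hz
      obtain ⟨y, rfl⟩ := hπ z
      have hy : y ∈ Ideal.span (Set.range g) := (hgμ y).mpr (RingHom.mem_ker.mp hz)
      show π c.det * π y = 0
      rw [← map_mul, hker]
      refine Submodule.span_induction (p := fun y _ => c.det * y ∈ Ideal.span (Set.range F)) ?_ ?_ ?_ ?_ hy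
      · rintro _ ⟨j, rfl⟩
        exact det_mul_mem F g c hc j
      · rw [mul_zero]; exact Submodule.zero_mem _
      · intro a b _ _ ha hb
        rw [mul_add]; exact Submodule.add_mem _ ha hb
      · intro a b _ hb
        rw [smul_eq_mul, mul_left_comm]; exact Ideal.mul_mem_left _ a hb
  · intro z hz
    obtain ⟨y, rfl⟩ := hπ z
    change π y * π c.det = 0 at hz
    rw [← map_mul, hker] at hz
    exact (hgμ y).mp ((hW y).2 hz)

end Groth.L01.Wiebe
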