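import Groth.Agent.L01.Wiebe.Staircase
import Groth.Agent.L07.KoszulAppend
import Groth.Agent.L04.Koszul.Vanish
import Mathlib.Algebra.MvPolynomial.Equiv
import Mathlib.Algebra.Polynomial.AlgebraMap
import Mathlib.RingTheory.Polynomial.Basic

/-!
A Koszul-regular sequence has, after adjoining indeterminates, regular generators of the same ideal.
-/

set_option autoImplicit false
set_option linter.style.haveILetI false
set_option linter.unusedSectionVars false
set_option backward.isDefEq.respectTransparency.types false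

universe u

namespace Groth.L01.Wiebe

open CategoryTheory CategoryTheory.Limits CochainComplex CohIII Groth.L04.Koszul
open Groth.L28.Kun (Z cl cl_surjective cl_eq_zero_iff homologyMap_cl)
open scoped nonZeroDivisors

theorem range_eq_insert {α : Type*} {k : ℕ} (g : Fin (k + 1) → α) :
    Set.range g = insert (g 0) (Set.range (g ∘ Fin.succ)) := by
  ext y
  constructor
  · rintro ⟨r, rfl⟩
    exact Fin.cases (Or.inl rfl) (fun s => Or.inr ⟨s, rfl⟩) r
  · rintro (rfl | ⟨s, rfl⟩)
    · exact ⟨0, rfl⟩
    · exact ⟨s.succ, rfl⟩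

theorem range_snoc' {α : Type*} {k : ℕ} (v : Fin k → α) (P : α) :
    Set.range (Fin.snoc v P : Fin (k + 1) → α) = insert P (Set.range v) := by
  ext y
  constructor
  · rintro ⟨r, rfl⟩
    refine Fin.lastCases ?_ (fun s => ?_) r
    · rw [Fin.snoc_last]; exact Or.inl rfl
    · rw [Fin.snoc_castSucc]; exact Or.inr ⟨s, rfl⟩
  · rintro (rfl | ⟨s, rfl⟩)
    · exact ⟨Fin.last k, Fin.snoc_last ..⟩
    · exact ⟨s.castSucc, Fin.snoc_castSucc ..⟩

variable {A : Type u} [CommRing A]

theorem ofList_ofFn {k : ℕ} (f : Fin k → A) : Ideal.ofList (List.ofFn f) = Ideal.span (Set.range f) := by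
  rw [Ideal.ofList]
  congr 1
  ext x
  exact List.mem_ofFn

theorem revReg_snoc {B : Type u} [CommRing B] (ψ : A →+* B) (hψ : Function.Surjective ψ) (P : A)
    (hker : RingHom.ker ψ = Ideal.span {P}) (hP : ∀ x, P * x = 0 → x = 0) :
    ∀ (k : ℕ) (v : Fin k → A), RevReg (fun i => ψ (v i)) → RevReg (Fin.snoc v P : Fin (k + 1) → A)
  | 0, v, _ => by
    refine ⟨fun x hx => ?_, trivial⟩
    rw [Set.range_eq_empty, Ideal.span_empty, Ideal.mem_bot] at hx ⊢
    exact hP x hx
  | k + 1, v, h => by
    have htail : Fin.tail (Fin.snoc v P : Fin (k + 1 + 1) → A) = Fin.snoc (Fin.tail v) P := by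
      funext r
      refine Fin.lastCases ?_ (fun s => ?_) r
      · rw [Fin.snoc_last, Fin.tail, Fin.succ_last, Fin.snoc_last]
      · rw [Fin.snoc_castSucc, Fin.tail, Fin.succ_castSucc, Fin.snoc_castSucc]
        rfl
    show (∀ x, _ → _) ∧ _
    rw [htail]
    refine ⟨fun x hx => ?_, revReg_snoc ψ hψ P hker hP k (Fin.tail v) h.2⟩
    have hcomap : Ideal.span (Set.range (Fin.snoc (Fin.tail v) P : Fin (k + 1) → A)) =
        (Ideal.span (Set.range (Fin.tail fun i => ψ (v i)))).comap ψ := by
      rw [range_snoc', Ideal.span_insert, show (Fin.tail fun i => ψ (v i)) = ψ ∘ Fin.tail v from rfl,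
        Set.range_comp, ← Ideal.map_span, Ideal.comap_map_of_surjective ψ hψ, ← RingHom.ker_eq_comap_bot,
        hker, sup_comm]
    rw [hcomap, Ideal.mem_comap] at hx ⊢
    rw [show (Fin.snoc v P : Fin (k + 1 + 1) → A) 0 = v 0 from Fin.snoc_castSucc (α := fun _ => A) P v 0,
      map_mul] at hx
    exact h.1 (ψ x) hx

theorem revReg_equiv {B : Type u} [CommRing B] (e : A ≃+* B) :
    ∀ (k : ℕ) (f : Fin k → A), RevReg f → RevReg (fun i => e (f i))
  | 0, _, _ => trivial
  | k + 1, f, h => by
    refine ⟨fun x hx => ?_, revReg_equiv e k (Fin.tail f) h.2⟩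
    have hs : Ideal.span (Set.range (Fin.tail fun i => e (f i))) =
        (Ideal.span (Set.range (Fin.tail f))).map (e : A →+* B) := by
      rw [Ideal.map_span, ← Set.range_comp]
      rfl
    rw [hs] at hx ⊢
    obtain ⟨y, rfl⟩ := e.surjective x
    rw [← map_mul] at hx
    obtain ⟨z, hz, hze⟩ := (Ideal.mem_map_iff_of_surjective (e : A →+* B) e.surjective).mp hx
    rw [show (e : A →+* B) z = e z from rfl] at hze
    exact Ideal.mem_map_of_mem _ (h.1 y (e.injective hze ▸ hz))

/-- Nothing is killed by all members of a nonempty Koszul-regular sequence. -/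
theorem eq_zero_of_kills (l : List A) (hl : l ≠ []) (h : LCI.IsKoszulRegularSeq A l) (x : A)
    (hx : ∀ a ∈ l, a * x = 0) : x = 0 := by
  have hlen : 0 < l.length := List.length_pos_iff.mpr hl
  let i : ℤ := -(l.length : ℤ)
  have hi : i + l.length = 0 := by omega
  obtain ⟨z, hz⟩ := bot_surjective (M := ModuleCat.of A A) l i hi x
  have hd := d_eq_zero_of_kills l i (i + 1) rfl hi z fun a ha => by rw [hz]; exact hx a ha
  haveI := ModuleCat.isZero_iff_subsingleton.1
    ((Groth.L07.KoszulPerm.isKoszulRegularSeq_iff l).1 h i (by omega))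
  obtain ⟨w, hw⟩ := (cl_eq_zero_iff _ (sub_add_cancel i 1) ⟨z, hd⟩).mp (Subsingleton.elim _ _)
  haveI := ModuleCat.isZero_iff_subsingleton.1 (isZero_X (ModuleCat.of A A) l (i - 1) (by omega))
  rw [Subsingleton.elim w 0, map_zero] at hw
  rw [← hz, show z = 0 from hw.symm, map_zero]

/-- Dropping a regular first generator. -/
theorem isKoszulRegularSeq_quotient (p : A) (hp : ∀ x, p * x = 0 → x = 0) (l : List A)
    (h : LCI.IsKoszulRegularSeq A (l ++ [p])) :
    LCI.IsKoszulRegularSeq (A ⧸ Ideal.span {p}) (l.map (Ideal.Quotient.mk (Ideal.span {p}))) := by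
  have hw : RingTheory.Sequence.IsWeaklyRegular (ModuleCat.of A A) [p] := by
    rw [RingTheory.Sequence.isWeaklyRegular_cons_iff]
    refine ⟨fun x y hxy => ?_, RingTheory.Sequence.IsWeaklyRegular.nil _ _⟩
    exact sub_eq_zero.mp (hp (x - y) (by rw [mul_sub]; exact sub_eq_zero.mpr hxy))
  obtain ⟨π, hπ⟩ := Groth.L07.KoszulAppend.exists_augmentation (ModuleCat.of A A) [p]
    (fun n hn => isZero_of_isWeaklyRegular [p] _ hw n hn.ne) l
  refine (Groth.L07.KoszulPerm.isKoszulRegularSeq_iff _).2 fun n hn => ?_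
  let Q1 := A ⧸ (Ideal.ofList [p] • ⊤ : Submodule A A)
  have hI : (Ideal.ofList [p] • ⊤ : Submodule A A) = Ideal.span {p} := by
    rw [Ideal.ofList_singleton, Ideal.smul_eq_mul, Ideal.mul_top]
  let e : Q1 ≃+ A ⧸ Ideal.span {p} := (Submodule.quotEquivOfEq _ _ hI).toAddEquiv
  have he : ∀ (b : A) (m : Q1), e (b • m) = Ideal.Quotient.mk (Ideal.span {p}) b • e m := by
    intro b m
    obtain ⟨a, rfl⟩ := Submodule.Quotient.mk_surjective _ m
    rfl
  refine Groth.L07.KoszulBC.isZero_transfer (Ideal.Quotient.mk (Ideal.span {p})) (ModuleCat.of A Q1)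
    (ModuleCat.of _ (A ⧸ Ideal.span {p})) e he l n ?_
  haveI := ModuleCat.isZero_iff_subsingleton.1
    ((Groth.L07.KoszulPerm.isKoszulRegularSeq_iff _).1 h n hn)
  exact ModuleCat.isZero_iff_subsingleton.2 (subsingleton_of_forall_eq 0 fun c => by
    obtain ⟨d, rfl⟩ := (hπ n).2 c
    rw [Subsingleton.elim d 0, map_zero])

theorem map_transfer {Q R S T : Type*} [CommRing Q] [CommRing R] [CommRing S] [CommRing T] (c : Q →+* R)
    (C₁ : R →+* S) (e : S ≃+* T) (C₂ : Q →+* T) (h : ∀ q, e (C₁ (c q)) = C₂ q) (I : Ideal Q) :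
    ((I.map c).map C₁).map e = I.map C₂ := by
  show Ideal.map (e : S →+* T) _ = _
  rw [Ideal.map_map, Ideal.map_map]
  congr 1
  exact RingHom.ext h

/-- Regular generators modulo a regular element lift. -/
theorem lift_revReg {k : ℕ} (R : Type u) [CommRing R] (p : R) (hp : ∀ x, p * x = 0 → x = 0) (rest : Fin k → R)
    (h : ∃ (σ : Type) (f' : Fin k → MvPolynomial σ (R ⧸ Ideal.span {p})), RevReg f' ∧
      Ideal.span (Set.range f') =
        (Ideal.span (Set.range (Ideal.Quotient.mk (Ideal.span {p}) ∘ rest))).map MvPolynomial.C) :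
    ∃ (σ : Type) (f' : Fin (k + 1) → MvPolynomial σ R), RevReg f' ∧
      Ideal.span (Set.range f') = (Ideal.span {p} ⊔ Ideal.span (Set.range rest)).map MvPolynomial.C := by
  obtain ⟨σ, f', hf', hspan'⟩ := h
  let ψ : MvPolynomial σ R →+* MvPolynomial σ (R ⧸ Ideal.span {p}) :=
    MvPolynomial.map (Ideal.Quotient.mk (Ideal.span {p}))
  have hψ : Function.Surjective ψ := MvPolynomial.map_surjective _ Ideal.Quotient.mk_surjective
  choose v hv using fun r => hψ (f' r)
  have hker : RingHom.ker ψ = Ideal.span {MvPolynomial.C p} := by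
    rw [MvPolynomial.ker_map, Ideal.mk_ker, Ideal.map_span, Set.image_singleton]
  have hP : ∀ x : MvPolynomial σ R, MvPolynomial.C p * x = 0 → x = 0 := fun x hx => MvPolynomial.ext _ _ fun m => by
    have := congrArg (MvPolynomial.coeff m) hx
    rw [MvPolynomial.coeff_C_mul, MvPolynomial.coeff_zero] at this
    rw [hp _ this, MvPolynomial.coeff_zero]
  have hv' : (fun i => ψ (v i)) = f' := funext hv
  refine ⟨σ, _, revReg_snoc ψ hψ (MvPolynomial.C p) hker hP k v (hv'.symm ▸ hf'), ?_⟩
  have h1 := congrArg (Ideal.comap ψ) (show (Ideal.span (Set.range v)).map ψ =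
      ((Ideal.span (Set.range rest)).map (MvPolynomial.C : R →+* MvPolynomial σ R)).map ψ by
    rw [Ideal.map_span, ← Set.range_comp, show ψ ∘ v = f' from hv', hspan', Ideal.map_map,
      Ideal.map_span, Ideal.map_span, ← Set.range_comp, ← Set.range_comp]
    congr 2
    funext r
    exact (MvPolynomial.map_C _ _).symm)
  rw [Ideal.comap_map_of_surjective ψ hψ, Ideal.comap_map_of_surjective ψ hψ, ← RingHom.ker_eq_comap_bot,
    hker] at h1
  rw [range_snoc', Ideal.span_insert, sup_comm, h1, Ideal.map_sup, Ideal.map_span _ {p},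
    Set.image_singleton, sup_comm]

theorem exists_revReg : ∀ (k : ℕ) (Q : Type u) [CommRing Q] (f : Fin k → Q), LCI.IsKoszulRegularSeq Q (List.ofFn f) →
    ∃ (σ : Type) (f' : Fin k → MvPolynomial σ Q), RevReg f' ∧
      Ideal.span (Set.range f') = (Ideal.span (Set.range f)).map MvPolynomial.C := by
  intro k
  induction k with
  | zero =>
    intro Q _ f _
    refine ⟨Empty, Fin.elim0, trivial, ?_⟩
    rw [Set.range_eq_empty, Set.range_eq_empty, Ideal.span_empty, Ideal.span_empty, Ideal.map_bot]
  | succ k ih =>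
    intro Q _ f hf
    let R := Polynomial Q
    let p : R := ∑ r : Fin (k + 1), Polynomial.monomial (r : ℕ) (f r)
    have hcoeff : ∀ r : Fin (k + 1), p.coeff (r : ℕ) = f r := fun r => by
      show Polynomial.coeff (∑ s : Fin (k + 1), Polynomial.monomial (s : ℕ) (f s)) (r : ℕ) = f r
      rw [Polynomial.finsetSum_coeff]
      simp only [Polynomial.coeff_monomial]
      rw [Finset.sum_eq_single r (fun s _ hs => if_neg fun e => hs (Fin.ext e)) (by simp), if_pos rfl]
    have hp : ∀ x, p * x = 0 → x = 0 := by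
      have hp' : p ∈ R⁰ := by
        by_contra hnot
        obtain ⟨c, hc0, hc⟩ := Polynomial.notMem_nonZeroDivisors_iff.mp hnot
        refine hc0 (eq_zero_of_kills _ (by simp) hf c fun a ha => ?_)
        obtain ⟨r, rfl⟩ := List.mem_ofFn.mp ha
        have := congrArg (fun q => Polynomial.coeff q (r : ℕ)) hc
        simp only [Polynomial.coeff_smul, Polynomial.coeff_zero, hcoeff, smul_eq_mul] at this
        rwa [mul_comm]
      exact fun x hx => (mul_left_mem_nonZeroDivisors_eq_zero_iff hp').mp hx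
    let rest : Fin k → R := fun r => Polynomial.C (f r.succ)
    have hR : LCI.IsKoszulRegularSeq R ((List.ofFn f).map (Polynomial.C : Q →+* R)) := by
      refine Groth.L07.KoszulFlat.isKoszulRegularSeq_map _ ?_ _ hf
      show (algebraMap Q (Polynomial Q)).Flat
      exact RingHom.flat_algebraMap_iff.mpr inferInstance
    have hp0 : p - Polynomial.C (f 0) ∈ Ideal.span (Set.range rest) := by
      rw [show p = Polynomial.C (f 0) + ∑ r : Fin k, Polynomial.monomial ((r.succ : Fin (k + 1)) : ℕ) (f r.succ) by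
        show ∑ r : Fin (k + 1), _ = _
        rw [Fin.sum_univ_succ, Fin.val_zero, Polynomial.monomial_zero_left], add_sub_cancel_left]
      refine Submodule.sum_mem _ fun r _ => ?_
      rw [← Polynomial.C_mul_X_pow_eq_monomial]
      exact Ideal.mul_mem_right _ _ (Ideal.subset_span ⟨r, rfl⟩)
    have hspan : (Ideal.span (Set.range f)).map (Polynomial.C : Q →+* R) =
        Ideal.span {p} ⊔ Ideal.span (Set.range rest) := by
      rw [Ideal.map_span, range_eq_insert f, Set.image_insert_eq, Ideal.span_insert, ← Set.range_comp]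
      change Ideal.span {Polynomial.C (f 0)} ⊔ Ideal.span (Set.range rest) = _
      apply le_antisymm <;> refine sup_le ?_ le_sup_right
      · rw [Ideal.span_singleton_le_iff_mem, ← sub_sub_cancel p (Polynomial.C (f 0))]
        exact sub_mem (Submodule.mem_sup_left (Ideal.mem_span_singleton_self p)) (Submodule.mem_sup_right hp0)
      · rw [Ideal.span_singleton_le_iff_mem, ← sub_add_cancel p (Polynomial.C (f 0))]
        exact add_mem (Submodule.mem_sup_right hp0) (Submodule.mem_sup_left (Ideal.mem_span_singleton_self _))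
    have hL : LCI.IsKoszulRegularSeq R (List.ofFn rest ++ [p]) := by
      refine Groth.L07.KoszulPerm.isKoszulRegularSeq_of_ofList_eq ?_ (by simp) hR
      rw [Ideal.ofList_append, Ideal.ofList_singleton, ofList_ofFn rest, sup_comm, ← hspan, ← ofList_ofFn f,
        Ideal.ofList, Ideal.ofList, Ideal.map_span]
      congr 1
      ext y
      simp [List.mem_map, Set.mem_image, eq_comm]
    have hquot := isKoszulRegularSeq_quotient p hp _ hL
    rw [List.map_ofFn] at hquot
    obtain ⟨σ, f', hf', hspan'⟩ := lift_revReg R p hp rest (ih (R ⧸ Ideal.span {p}) _ hquot)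
    let e : MvPolynomial σ (Polynomial Q) ≃+* MvPolynomial (Option σ) Q :=
      (MvPolynomial.optionEquivRight Q σ).symm.toRingEquiv
    refine ⟨Option σ, _, revReg_equiv e _ _ hf', ?_⟩
    rw [Set.range_comp' e, ← Ideal.map_span e, hspan', ← hspan]
    exact map_transfer (Polynomial.C : Q →+* Polynomial Q) MvPolynomial.C e MvPolynomial.C (fun q => by
      show (MvPolynomial.optionEquivRight Q σ).symm (MvPolynomial.C (Polynomial.C q)) = MvPolynomial.C q
      rw [AlgEquiv.symm_apply_eq, MvPolynomial.optionEquivRight_C]) _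

end Groth.L01.Wiebe
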