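import Groth.Agent.L07.KoszulPerm
import Groth.Agent.L07.KoszulBC
import Mathlib.LinearAlgebra.Matrix.Determinant.Basic
import Mathlib.Algebra.BigOperators.Fin

/-!
Contracting homotopies on Koszul complexes attached to coefficient vectors, and their iterates on `1`.
-/

set_option autoImplicit false
set_option linter.style.haveILetI false
set_option linter.unusedSectionVars false
set_option backward.isDefEq.respectTransparency.types false

universe u

namespace Groth.L01.Wiebe

open CategoryTheory CategoryTheory.Limits CochainComplex CohIII Groth.L04.Koszul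
open Groth.L02.PC (coneEquiv)

variable {A : Type u} [CommRing A]

/-- the combination of `l` with coefficients `c` -/
def dot : List A → (ℕ → A) → A
  | [], _ => 0
  | b :: l, c => c 0 * b + dot l (fun i => c (i + 1))

variable (M : ModuleCat.{u} A)

/-- the homotopy -/
noncomputable def h : ∀ (l : List A) (_ : ℕ → A) (i j : ℤ), i + 1 = j →
    ((koszulCx M l).X j →ₗ[A] (koszulCx M l).X i)
  | [], _, _, _, _ => 0
  | b :: l, c, i, j, hij =>
    (coneEquiv (stepHom M b l) i j hij).symm.toLinearMap.comp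
      ((LinearMap.prod
        ((c 0 • LinearMap.snd A ((koszulCx M l).X (j + 1)) ((koszulCx M l).X j)) -
          (h l (fun n => c (n + 1)) j (j + 1) rfl).comp (LinearMap.fst A _ _))
        ((h l (fun n => c (n + 1)) i j hij).comp (LinearMap.snd A _ _))).comp
        (coneEquiv (stepHom M b l) j (j + 1) rfl).toLinearMap)

theorem h_cmk (b : A) (l : List A) (c : ℕ → A) {i j k : ℤ} (hij : i + 1 = j) (hjk : j + 1 = k)
    (p : (koszulCx M l).X k) (x : (koszulCx M l).X j) :
    h M (b :: l) c i j hij (cmk (stepHom M b l) j k hjk p x) =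
      cmk (stepHom M b l) i j hij (c 0 • x - h M l (fun n => c (n + 1)) j k hjk p)
        (h M l (fun n => c (n + 1)) i j hij x) := by
  subst hjk
  exact congrArg (fun w : (koszulCx M l).X (j + 1) × (koszulCx M l).X j =>
      cmk (stepHom M b l) i j hij (c 0 • w.2 - h M l (fun n => c (n + 1)) j (j + 1) rfl w.1)
        (h M l (fun n => c (n + 1)) i j hij w.2))
    (coneEquiv_cmk (stepHom M b l) (rfl : j + 1 = j + 1) p x)

theorem stepHom_apply (b : A) (l : List A) (j : ℤ) (p : (koszulCx M l).X j) :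
    (stepHom M b l).f j p = b • p := rfl

theorem homotopy : ∀ (l : List A) (c : ℕ → A) {i j k : ℤ} (hij : i + 1 = j) (hjk : j + 1 = k)
    (x : (koszulCx M l).X j),
    (koszulCx M l).d i j (h M l c i j hij x) + h M l c j k hjk ((koszulCx M l).d j k x) = dot l c • x
  | [], c, i, j, k, hij, hjk, x => by
    show (koszulCx M []).d i j 0 + 0 = (0 : A) • x
    rw [map_zero, add_zero, zero_smul]
  | b :: l, c, i, j, k, hij, hjk, x => by
    obtain ⟨p, y, rfl⟩ := exists_cmk_cons M j k hjk x
    have hkl : k + 1 = k + 1 := rfl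
    have e1 := homotopy l (fun n => c (n + 1)) hjk hkl p
    have e2 := homotopy l (fun n => c (n + 1)) hij hjk y
    erw [h_cmk, d_cmk (stepHom M b l) hij hjk, d_cmk (stepHom M b l) hjk hkl, h_cmk]
    rw [stepHom_apply, stepHom_apply]
    refine (cmk_add (stepHom M b l) hjk _ _ _ _).symm.trans (Eq.trans ?_ (smul_cmk (stepHom M b l) hjk _ p y).symm)
    rw [dot]
    congr 1
    · simp only [map_sub, map_neg, map_smul, map_add] at e1 ⊢
      rw [add_smul, mul_smul, ← e1]
      module
    · simp only [map_sub, map_neg, map_smul, map_add] at e2 ⊢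
      rw [add_smul, mul_smul, ← e2]
      module

/-- `1` in degree zero -/
noncomputable def one : ∀ (l : List A) (i : ℤ), i = 0 → (koszulCx (ModuleCat.of A A) l).X i
  | [], i, hi => (HomologicalComplex.singleObjXIsoOfEq (ComplexShape.up ℤ) (0 : ℤ) (ModuleCat.of A A) i hi).inv (1 : A)
  | b :: l, i, hi => cmk (stepHom _ b l) i (i + 1) rfl 0 (one l i hi)

/-- iterated homotopies applied to `1` -/
noncomputable def Z (l : List A) : ∀ (k : ℕ) (_ : Fin k → ℕ → A) (i : ℤ), i + k = 0 →
    (koszulCx (ModuleCat.of A A) l).X i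
  | 0, _, i, hi => one l i (by simpa using hi)
  | k + 1, c, i, hi => h _ l (c 0) i (i + 1) rfl (Z l k (Fin.tail c) (i + 1) (by push_cast at hi; omega))

theorem h_congr (l : List A) (c : ℕ → A) {i j j' : ℤ} (hj : j = j') (hij : i + 1 = j) (hij' : i + 1 = j')
    (k : ℕ) (d : Fin k → ℕ → A) (e : j + k = 0) (e' : j' + k = 0) :
    h _ l c i j hij (Z l k d j e) = h _ l c i j' hij' (Z l k d j' e') := by
  subst hj
  rfl

/-- drop the first coefficient -/
def shift {k : ℕ} (c : Fin k → ℕ → A) : Fin k → ℕ → A := fun r n => c r (n + 1)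

theorem Z_zero_cons (b : A) (l : List A) (c : Fin 0 → ℕ → A) (i j : ℤ) (hij : i + 1 = j) (hi : i + (0 : ℕ) = 0) :
    Z (b :: l) 0 c i hi = cmk (stepHom _ b l) i j hij 0 (Z l 0 (shift c) i hi) := by
  subst hij
  rfl

/-- the component decomposition -/
theorem Z_succ_cons (b : A) (l : List A) : ∀ (m : ℕ) (c : Fin (m + 1) → ℕ → A) (i j : ℤ) (hij : i + 1 = j)
    (hi : i + ((m + 1 : ℕ) : ℤ) = 0) (hj : j + (m : ℤ) = 0),
    Z (b :: l) (m + 1) c i hi = cmk (stepHom _ b l) i j hij
      (∑ r : Fin (m + 1), ((-1 : A) ^ (r : ℕ) * c r 0) • Z l m (shift (c ∘ r.succAbove)) j hj)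
      (Z l (m + 1) (shift c) i hi) := by
  intro m
  induction m with
  | zero =>
    intro c i j hij hi hj
    subst hij
    show h _ _ _ _ _ _ (Z (b :: l) 0 _ _ _) = _
    rw [Z_zero_cons b l _ (i + 1) (i + 1 + 1) rfl (by push_cast at hi ⊢; omega)]
    erw [h_cmk]
    rw [map_zero, sub_zero, Fin.sum_univ_succ, Finset.univ_eq_empty, Finset.sum_empty]
    refine congrArg₂ (cmk _ i (i + 1) rfl) ?_ rfl
    simp only [Fin.val_zero, pow_zero, one_mul]
    exact (add_zero _).symm
  | succ m ih =>
    intro c i j hij hi hj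
    subst hij
    show h _ _ _ _ _ _ (Z (b :: l) (m + 1) _ _ _) = _
    rw [ih (Fin.tail c) (i + 1) (i + 1 + 1) rfl (by push_cast at hi ⊢; omega) (by push_cast at hi ⊢; omega)]
    erw [h_cmk]
    refine congrArg₂ (cmk _ i (i + 1) rfl) ?_ rfl
    rw [map_sum]
    simp only [map_smul]
    conv_rhs => rw [Fin.sum_univ_succ]
    simp only [Fin.val_zero, pow_zero, one_mul]
    rw [sub_eq_add_neg, ← Finset.sum_neg_distrib]
    refine congrArg₂ (· + ·) rfl (Finset.sum_congr rfl fun r _ => ?_)
    rw [Fin.val_succ, pow_succ, mul_neg_one, neg_mul, neg_smul]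
    refine congrArg Neg.neg (congrArg (((-1 : A) ^ (r : ℕ) * c r.succ 0) • ·) ?_)
    show _ = h _ l (shift (c ∘ r.succ.succAbove) 0) (i + 1) (i + 1 + 1) rfl (Z l m _ _ _)
    have e0 : shift (c ∘ r.succ.succAbove) 0 = fun n => c 0 (n + 1) := by
      funext n; simp [shift]
    have et : Fin.tail (shift (c ∘ r.succ.succAbove)) = shift (Fin.tail c ∘ r.succAbove) := by
      funext s n; simp [shift, Fin.tail, Fin.succ_succAbove_succ]
    rw [e0, et]

variable {M}

/-- scalars killing the module kill the complex -/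
theorem smul_eq_zero_of_kills (a : A) (ha : ∀ x : M, a • x = 0) (l : List A) (i : ℤ)
    (z : (koszulCx M l).X i) : a • z = 0 := by
  have h0 : (a • 𝟙 M : M ⟶ M) = 0 := ModuleCat.hom_ext (LinearMap.ext fun x => ha x)
  have h1 := kmap_smul_id (M := M) a l
  rw [h0] at h1
  have h2 : kmap (0 : M ⟶ M) l = 0 := by
    have h := Groth.L07.KoszulBC.kmap_add (0 : M ⟶ M) 0 l
    rw [add_zero] at h
    exact left_eq_add.mp h
  rw [h2] at h1
  exact (congrArg (fun φ => φ.f i z) h1.symm :)

/-- the bottom coordinate -/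
noncomputable def bot (M : ModuleCat.{u} A) : ∀ (l : List A) (i : ℤ), i + l.length = 0 →
    ((koszulCx M l).X i →ₗ[A] M)
  | [], i, hi => (HomologicalComplex.singleObjXIsoOfEq (ComplexShape.up ℤ) (0 : ℤ) M i
      (by simpa using hi)).hom.hom
  | b :: l, i, hi => (bot M l (i + 1) (by simp only [List.length_cons] at hi; omega)).comp
      ((LinearMap.fst A _ _).comp (coneEquiv (stepHom M b l) i (i + 1) rfl).toLinearMap)

theorem bot_cmk (b : A) (l : List A) {i j : ℤ} (hij : i + 1 = j) (hi : i + (b :: l).length = 0)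
    (hj : j + l.length = 0) (p : (koszulCx M l).X j) (x : (koszulCx M l).X i) :
    bot M (b :: l) i hi (cmk (stepHom M b l) i j hij p x) = bot M l j hj p := by
  subst hij
  exact congrArg (fun w : (koszulCx M l).X (i + 1) × (koszulCx M l).X i => bot M l (i + 1) hj w.1)
    (coneEquiv_cmk (stepHom M b l) (rfl : i + 1 = i + 1) p x)

theorem bot_injective : ∀ (l : List A) (i : ℤ) (hi : i + l.length = 0), Function.Injective (bot M l i hi)
  | [], i, hi => (single_X_eq (M := M) i (by simpa using hi)).1
  | b :: l, i, hi => by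
    intro z z' e
    obtain ⟨p, x, rfl⟩ := exists_cmk_cons M i (i + 1) rfl z
    obtain ⟨q, y, rfl⟩ := exists_cmk_cons M i (i + 1) rfl z'
    rw [bot_cmk b l rfl hi (by simp only [List.length_cons] at hi; omega),
      bot_cmk b l rfl hi (by simp only [List.length_cons] at hi; omega)] at e
    rw [bot_injective l _ _ e]
    haveI := ModuleCat.isZero_iff_subsingleton.1 (isZero_X M l i
      (by simp only [List.length_cons] at hi; omega))
    rw [Subsingleton.elim x y]

theorem bot_surjective : ∀ (l : List A) (i : ℤ) (hi : i + l.length = 0), Function.Surjective (bot M l i hi)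
  | [], i, hi => (single_X_eq (M := M) i (by simpa using hi)).2
  | b :: l, i, hi => fun m => by
    obtain ⟨p, rfl⟩ := bot_surjective l (i + 1) (by simp only [List.length_cons] at hi; omega) m
    exact ⟨cmk (stepHom M b l) i (i + 1) rfl p 0,
      bot_cmk b l rfl hi (by simp only [List.length_cons] at hi; omega) p 0⟩

theorem bot_kmap {N : ModuleCat.{u} A} (g : M ⟶ N) : ∀ (l : List A) (i : ℤ) (hi : i + l.length = 0)
    (z : (koszulCx M l).X i), bot N l i hi ((kmap g l).f i z) = g (bot M l i hi z)
  | [], i, hi, z => kmap_nil_apply g i (by simpa using hi) z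
  | b :: l, i, hi, z => by
    obtain ⟨p, x, rfl⟩ := exists_cmk_cons M i (i + 1) rfl z
    have hl : i + 1 + l.length = 0 := by simp only [List.length_cons] at hi; omega
    rw [kmap_cmk, bot_cmk b l rfl hi hl, bot_cmk b l rfl hi hl]
    exact bot_kmap g l (i + 1) hl p

/-- the bottom cycles -/
theorem d_eq_zero_of_kills : ∀ (l : List A) (i j : ℤ) (_ : i + 1 = j) (hi : i + l.length = 0)
    (z : (koszulCx M l).X i), (∀ a ∈ l, a • bot M l i hi z = 0) → (koszulCx M l).d i j z = 0
  | [], i, j, hij, hi, z, _ =>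
    (ModuleCat.isZero_iff_subsingleton.1 (isZero_X M [] j
      (by simp only [List.length_nil, Nat.cast_zero] at hi ⊢; omega))).elim _ _
  | b :: l, i, j, hij, hi, z, ha => by
    obtain ⟨p, x, rfl⟩ := exists_cmk_cons M i j hij z
    have hj : j + l.length = 0 := by simp only [List.length_cons] at hi; omega
    rw [bot_cmk b l hij hi hj] at ha
    have hdp := d_eq_zero_of_kills l j (j + 1) rfl hj p fun a h => ha a (List.mem_cons_of_mem _ h)
    haveI := ModuleCat.isZero_iff_subsingleton.1 (isZero_X M l i (by omega))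
    have hbp : b • p = 0 := bot_injective l j hj (by rw [map_smul, map_zero]; exact ha b List.mem_cons_self)
    erw [d_cmk (stepHom M b l) hij (rfl : j + 1 = j + 1)]
    rw [hdp, stepHom_apply, hbp, Subsingleton.elim x 0, map_zero, neg_zero, add_zero, cmk_zero]
    rfl

/-- the matrix of the first coefficients -/
def mat (n : ℕ) (c : Fin n → ℕ → A) : Matrix (Fin n) (Fin n) A := fun r s => c r (s : ℕ)

theorem bot_Z : ∀ (l : List A) (n : ℕ) (hn : l.length = n) (c : Fin n → ℕ → A) (i : ℤ) (hi : i + n = 0),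
    bot (ModuleCat.of A A) l i (by rw [hn]; exact hi) (Z l n c i hi) = (mat n c).det
  | [], n, hn, c, i, hi => by
    subst hn
    haveI : IsEmpty (Fin ([] : List A).length) := ⟨fun r => absurd r.2 (Nat.not_lt_zero _)⟩
    rw [Matrix.det_isEmpty]
    show (HomologicalComplex.singleObjXIsoOfEq (ComplexShape.up ℤ) (0 : ℤ) (ModuleCat.of A A) i _).hom
      ((HomologicalComplex.singleObjXIsoOfEq (ComplexShape.up ℤ) (0 : ℤ) (ModuleCat.of A A) i _).inv (1 : A)) = 1
    rw [← ConcreteCategory.comp_apply, Iso.inv_hom_id]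
    rfl
  | b :: l, n, hn, c, i, hi => by
    subst hn
    have hj : i + 1 + (l.length : ℤ) = 0 := by simp only [List.length_cons] at hi; omega
    erw [Z_succ_cons b l l.length c i (i + 1) rfl hi hj]
    rw [bot_cmk b l rfl _ hj, map_sum, Matrix.det_succ_column_zero]
    refine Finset.sum_congr rfl fun r _ => ?_
    rw [map_smul, bot_Z l l.length rfl _ (i + 1) hj, smul_eq_mul]
    congr 2

/-- the top coordinate -/
noncomputable def top (M : ModuleCat.{u} A) : ∀ (l : List A) (i : ℤ), i = 0 →
    ((koszulCx M l).X i →ₗ[A] M)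
  | [], i, hi => (HomologicalComplex.singleObjXIsoOfEq (ComplexShape.up ℤ) (0 : ℤ) M i hi).hom.hom
  | b :: l, i, hi => (top M l i hi).comp
      ((LinearMap.snd A _ _).comp (coneEquiv (stepHom M b l) i (i + 1) rfl).toLinearMap)

theorem top_cmk (b : A) (l : List A) {i j : ℤ} (hij : i + 1 = j) (hi : i = 0)
    (p : (koszulCx M l).X j) (x : (koszulCx M l).X i) :
    top M (b :: l) i hi (cmk (stepHom M b l) i j hij p x) = top M l i hi x := by
  subst hij
  exact congrArg (fun w : (koszulCx M l).X (i + 1) × (koszulCx M l).X i => top M l i hi w.2)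
    (coneEquiv_cmk (stepHom M b l) (rfl : i + 1 = i + 1) p x)

theorem top_injective : ∀ (l : List A) (i : ℤ) (hi : i = 0), Function.Injective (top M l i hi)
  | [], i, hi => (single_X_eq (M := M) i hi).1
  | b :: l, i, hi => by
    intro z z' e
    obtain ⟨p, x, rfl⟩ := exists_cmk_cons M i (i + 1) rfl z
    obtain ⟨q, y, rfl⟩ := exists_cmk_cons M i (i + 1) rfl z'
    rw [top_cmk b l rfl hi, top_cmk b l rfl hi] at e
    haveI := ModuleCat.isZero_iff_subsingleton.1 (isZero_X M l (i + 1) (by omega))
    rw [top_injective l i hi e, Subsingleton.elim p q]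

theorem top_one : ∀ (l : List A) (i : ℤ) (hi : i = 0), top (ModuleCat.of A A) l i hi (one l i hi) = (1 : A)
  | [], i, hi => by
    show (HomologicalComplex.singleObjXIsoOfEq (ComplexShape.up ℤ) (0 : ℤ) (ModuleCat.of A A) i _).hom
      ((HomologicalComplex.singleObjXIsoOfEq (ComplexShape.up ℤ) (0 : ℤ) (ModuleCat.of A A) i _).inv (1 : A)) = 1
    rw [← ConcreteCategory.comp_apply, Iso.inv_hom_id]
    rfl
  | b :: l, i, hi => by rw [one, top_cmk b l rfl hi, top_one l i hi]

theorem top_d_mem : ∀ (l : List A) (i j : ℤ) (_ : i + 1 = j) (hj : j = 0) (z : (koszulCx (ModuleCat.of A A) l).X i),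
    top (ModuleCat.of A A) l j hj ((koszulCx (ModuleCat.of A A) l).d i j z) ∈ Ideal.ofList l
  | [], i, j, hij, hj, z => by
    haveI := ModuleCat.isZero_iff_subsingleton.1 (isZero_X (ModuleCat.of A A) [] i
      (by simp only [List.length_nil, Nat.cast_zero]; omega))
    rw [Subsingleton.elim z 0, map_zero, map_zero]
    exact Submodule.zero_mem _
  | b :: l, i, j, hij, hj, z => by
    obtain ⟨p, x, rfl⟩ := exists_cmk_cons _ i j hij z
    erw [d_cmk (stepHom _ b l) hij (rfl : j + 1 = j + 1)]
    rw [top_cmk b l rfl hj, stepHom_apply, map_add, map_smul, smul_eq_mul, Ideal.ofList_cons]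
    exact Submodule.add_mem_sup (Ideal.mul_mem_right _ _ (Ideal.mem_span_singleton_self b))
      (top_d_mem l i j hij hj x)

end Groth.L01.Wiebe
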