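import Groth.Agent.L01.Wiebe.Generic

/-!
Wiebe's lemma: if `f = C g` with `f`, `g` Koszul-regular of equal length, then modulo `(f)` the ideal
`(g)` has annihilator generated by `det C`, and `det C` has annihilator `(g)`.
-/

set_option autoImplicit false
set_option linter.style.haveILetI false
set_option linter.unusedSectionVars false
set_option backward.isDefEq.respectTransparency.types false

universe u

namespace Groth.L01.Wiebe

open CategoryTheory CategoryTheory.Limits CochainComplex CohIII Groth.L04.Koszul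

variable {A : Type u} [CommRing A]

/-- extension by zero of a row -/
def ext {n : ℕ} (M : Matrix (Fin n) (Fin n) A) : Fin n → ℕ → A :=
  fun r m => if h : m < n then M r ⟨m, h⟩ else 0

theorem dot_ofFn : ∀ {n : ℕ} (g : Fin n → A) (c : ℕ → A), dot (List.ofFn g) c = ∑ j : Fin n, c j * g j
  | 0, g, c => by rw [List.ofFn_zero, dot, Finset.univ_eq_empty, Finset.sum_empty]
  | n + 1, g, c => by
    rw [List.ofFn_succ, dot, Fin.sum_univ_succ, dot_ofFn (fun i => g i.succ)]
    rfl

theorem dot_ext {n : ℕ} (g : Fin n → A) (M : Matrix (Fin n) (Fin n) A) (r : Fin n) :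
    dot (List.ofFn g) (ext M r) = ∑ j, M r j * g j := by
  rw [dot_ofFn]
  exact Finset.sum_congr rfl fun j _ => by rw [ext, dif_pos j.2]

theorem mat_ext {n : ℕ} (M : Matrix (Fin n) (Fin n) A) : mat n (ext M) = M := by
  funext r s
  rw [mat, ext, dif_pos s.2]

/-- The case of regular generators. -/
theorem regular_case {n : ℕ} (f g : Fin n → A) (M : Matrix (Fin n) (Fin n) A)
    (hfg : ∀ i, f i = ∑ j, M i j * g j) (hf : RevReg f) (hg : LCI.IsKoszulRegularSeq A (List.ofFn g)) (x : A) :
    ((∀ j, x * g j ∈ Ideal.span (Set.range f)) → x ∈ Ideal.span (Set.range f) ⊔ Ideal.span {M.det}) ∧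
    (x * M.det ∈ Ideal.span (Set.range f) → x ∈ Ideal.span (Set.range g)) := by
  have hf' : f = fun r => dot (List.ofFn g) (ext M r) := funext fun r => (hfg r).trans (dot_ext g M r).symm
  have hlen : (List.ofFn g).length = n := List.length_ofFn
  let I := Ideal.span (Set.range fun r => dot (List.ofFn g) (ext M r))
  obtain ⟨-, h2, h3⟩ := staircase (List.ofFn g)
    ((Groth.L07.KoszulPerm.isKoszulRegularSeq_iff _).1 hg) n (ext M) (hf' ▸ hf)
  let i : ℤ := -(n : ℤ)
  have hi : i + n = 0 := by omega
  have hi' : i + (List.ofFn g).length = 0 := by rw [hlen]; exact hi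
  haveI := ModuleCat.isZero_iff_subsingleton.1 (isZero_X (Mq I) (List.ofFn g) (i - 1) (by omega))
  have hbot : bot (Mq I) (List.ofFn g) i hi' ((kmap (proj I) (List.ofFn g)).f i (Z (List.ofFn g) n (ext M) i hi)) =
      Submodule.Quotient.mk M.det := by
    rw [bot_kmap, bot_Z (List.ofFn g) n hlen (ext M) i hi, mat_ext]
    rfl
  rw [hf']
  constructor
  · intro hx
    obtain ⟨z, hz⟩ := bot_surjective (M := Mq I) (List.ofFn g) i hi' (Submodule.Quotient.mk x)
    have hd := d_eq_zero_of_kills (List.ofFn g) i (i + 1) rfl hi' z fun a ha => by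
      obtain ⟨j, rfl⟩ := List.mem_ofFn.mp ha
      rw [hz]
      show Submodule.Quotient.mk (g j * x) = (0 : A ⧸ I)
      rw [Submodule.Quotient.mk_eq_zero, mul_comm]
      exact hx j
    obtain ⟨q, w, hw⟩ := h2 i (i + 1) rfl hi z hd
    rw [Subsingleton.elim w 0, map_zero, add_zero] at hw
    rw [hw, map_smul, hbot] at hz
    have h4 : q * M.det - x ∈ I := (Submodule.Quotient.eq I).mp hz
    rw [← sub_sub_cancel (q * M.det) x, sup_comm]
    exact Submodule.sub_mem _ (Submodule.mem_sup_left (Ideal.mul_mem_left _ q (Ideal.mem_span_singleton_self _)))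
      (Submodule.mem_sup_right h4)
  · intro hx
    rw [← ofList_ofFn]
    refine h3 i hi x ⟨0, ?_⟩
    rw [map_zero]
    refine bot_injective (List.ofFn g) i hi' ?_
    rw [map_zero, map_smul, hbot]
    exact ((Submodule.Quotient.mk_eq_zero I).mpr hx).symm

/-- `det M` times each `g j` lies in `(f)`. -/
theorem det_mul_mem {n : ℕ} (f g : Fin n → A) (M : Matrix (Fin n) (Fin n) A)
    (hfg : ∀ i, f i = ∑ j, M i j * g j) (j : Fin n) : M.det * g j ∈ Ideal.span (Set.range f) := by
  have h : M.det * g j = ∑ i, M.adjugate j i * f i := by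
    simp only [hfg, Finset.mul_sum, ← mul_assoc]
    rw [Finset.sum_comm]
    simp only [← Finset.sum_mul, ← Matrix.mul_apply, Matrix.adjugate_mul]
    rw [Finset.sum_eq_single j (fun k _ hk => by simp [Ne.symm hk]) (by simp)]
    simp
  rw [h]
  exact Submodule.sum_mem _ fun i _ => Ideal.mul_mem_left _ _ (Ideal.subset_span ⟨i, rfl⟩)

/-- **Wiebe's lemma.** -/
theorem wiebe {n : ℕ} (f g : Fin n → A) (M : Matrix (Fin n) (Fin n) A)
    (hfg : ∀ i, f i = ∑ j, M i j * g j) (hf : LCI.IsKoszulRegularSeq A (List.ofFn f))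
    (hg : LCI.IsKoszulRegularSeq A (List.ofFn g)) (x : A) :
    ((∀ j, x * g j ∈ Ideal.span (Set.range f)) → x ∈ Ideal.span (Set.range f) ⊔ Ideal.span {M.det}) ∧
    (x * M.det ∈ Ideal.span (Set.range f) → x ∈ Ideal.span (Set.range g)) := by
  obtain ⟨σ, f', hreg, hspan⟩ := exists_revReg n A f hf
  let c : A →+* MvPolynomial σ A := MvPolynomial.C
  let r : MvPolynomial σ A →+* A := MvPolynomial.constantCoeff
  have hrc : r.comp c = RingHom.id A := RingHom.ext fun a => MvPolynomial.constantCoeff_C σ a
  have hT : ∀ i, ∃ t : Fin n → MvPolynomial σ A, ∑ k, t k * c (f k) = f' i := fun i => by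
    rw [← Ideal.mem_span_range_iff_exists_fun, show Set.range (fun k => c (f k)) = c '' Set.range f from
      (Set.range_comp c f), ← Ideal.map_span, ← hspan]
    exact Ideal.subset_span ⟨i, rfl⟩
  choose T hT using hT
  let M' : Matrix (Fin n) (Fin n) (MvPolynomial σ A) := Matrix.of T * M.map c
  have hfg' : ∀ i, f' i = ∑ j, M' i j * c (g j) := fun i => by
    simp only [M', Matrix.mul_apply, Matrix.map_apply, Matrix.of_apply, Finset.sum_mul, ← hT i, hfg,
      map_sum, map_mul, Finset.mul_sum, mul_assoc]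
    exact Finset.sum_comm
  have hg' : LCI.IsKoszulRegularSeq (MvPolynomial σ A) (List.ofFn fun j => c (g j)) := by
    have := Groth.L07.KoszulFlat.isKoszulRegularSeq_map c
      (show (algebraMap A (MvPolynomial σ A)).Flat from RingHom.flat_algebraMap_iff.mpr inferInstance) _ hg
    rwa [List.map_ofFn] at this
  have hdet : M'.det = Matrix.det (Matrix.of T) * c M.det := by
    rw [Matrix.det_mul, RingHom.map_det]
    rfl
  obtain ⟨h1, h2⟩ := regular_case f' (fun j => c (g j)) M' hfg' hreg hg' (c x)
  rw [hspan] at h1 h2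
  have hback : ∀ (I : Ideal A) {y : MvPolynomial σ A}, y ∈ I.map c → r y ∈ I := fun I y hy => by
    have := Ideal.mem_map_of_mem r hy
    rwa [Ideal.map_map, hrc, Ideal.map_id] at this
  constructor
  · intro hx
    have h := h1 fun j => by rw [← map_mul]; exact Ideal.mem_map_of_mem c (hx j)
    obtain ⟨u, hu, v, hv, huv⟩ := Submodule.mem_sup.mp h
    obtain ⟨q, rfl⟩ := Ideal.mem_span_singleton'.mp hv
    have hx' : r (c x) = x := RingHom.congr_fun hrc x
    rw [← hx', ← huv, map_add, map_mul, hdet, map_mul, show r (c M.det) = M.det from RingHom.congr_fun hrc _,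
      ← mul_assoc]
    exact Submodule.add_mem_sup (hback _ hu) (Ideal.mul_mem_left _ _ (Ideal.mem_span_singleton_self _))
  · intro hx
    have h := h2 (by
      rw [hdet, mul_left_comm, ← map_mul]
      exact Ideal.mul_mem_left _ _ (Ideal.mem_map_of_mem c hx))
    rw [show Set.range (fun j => c (g j)) = c '' Set.range g from Set.range_comp c g, ← Ideal.map_span] at h
    have := hback _ h
    rwa [show r (c x) = x from RingHom.congr_fun hrc x] at this

end Groth.L01.Wiebe
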