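import Groth.Agent.L01.Wiebe.Homotopy

/-!
The staircase: for a regular sequence inside the ideal of a Koszul-regular sequence, the bottom Koszul
cycles modulo the regular sequence are multiples of the iterated homotopy.
-/

set_option autoImplicit false
set_option linter.style.haveILetI false
set_option linter.unusedSectionVars false
set_option backward.isDefEq.respectTransparency.types false

universe u

namespace Groth.L01.Wiebe

open CategoryTheory CategoryTheory.Limits CochainComplex CohIII Groth.L04.Koszul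
open Groth.L28.Kun (Z cl cl_surjective cl_eq_zero_iff homologyMap_cl)

variable {A : Type u} [CommRing A]

/-- regular read from the last entry -/
def RevReg : ∀ {k : ℕ}, (Fin k → A) → Prop
  | 0, _ => True
  | k + 1, f => (∀ x, f 0 * x ∈ Ideal.span (Set.range (Fin.tail f)) → x ∈ Ideal.span (Set.range (Fin.tail f))) ∧
      RevReg (Fin.tail f)

/-- `A ⧸ I` as an object -/
noncomputable abbrev Mq (I : Ideal A) : ModuleCat.{u} A := ModuleCat.of A (A ⧸ I)

/-- the projection -/
noncomputable abbrev proj (I : Ideal A) : ModuleCat.of A A ⟶ Mq I := ModuleCat.ofHom I.mkQ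

theorem kmap_d {M N : ModuleCat.{u} A} (g : M ⟶ N) (l : List A) (i j : ℤ) (z : (koszulCx M l).X i) :
    (koszulCx N l).d i j ((kmap g l).f i z) = (kmap g l).f j ((koszulCx M l).d i j z) := by
  rw [← ConcreteCategory.comp_apply, ← ConcreteCategory.comp_apply, (kmap g l).comm i j]

theorem kmap_smul_apply {M : ModuleCat.{u} A} (a : A) (l : List A) (i : ℤ) (z : (koszulCx M l).X i) :
    (kmap (a • 𝟙 M) l).f i z = a • z :=
  (congrArg (fun φ => φ.f i z) (kmap_smul_id (M := M) a l) :)

theorem kills_of_mem (I : Ideal A) {a : A} (ha : a ∈ I) (l : List A) (i : ℤ) (z : (koszulCx (Mq I) l).X i) :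
    a • z = 0 :=
  smul_eq_zero_of_kills a (fun x => by
    obtain ⟨x, rfl⟩ := Submodule.Quotient.mk_surjective _ (x : A ⧸ I)
    exact (Submodule.Quotient.mk_eq_zero I).mpr (Ideal.mul_mem_right _ _ ha)) l i z

theorem d_Z_mem (g : List A) : ∀ (k : ℕ) (c : Fin k → ℕ → A) (i j : ℤ) (_ : i + 1 = j) (hi : i + k = 0),
    (koszulCx (ModuleCat.of A A) g).d i j (Wiebe.Z g k c i hi) ∈
      Ideal.span (Set.range fun r => dot g (c r)) • (⊤ : Submodule A ((koszulCx (ModuleCat.of A A) g).X j))
  | 0, c, i, j, hij, hi => by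
    haveI := ModuleCat.isZero_iff_subsingleton.1 (isZero_X (ModuleCat.of A A) g j
      (by simp only [Nat.cast_zero] at hi; omega))
    rw [Subsingleton.elim ((koszulCx (ModuleCat.of A A) g).d i j _) 0]
    exact Submodule.zero_mem _
  | k + 1, c, i, j, hij, hi => by
    subst hij
    have hj : i + 1 + (k : ℤ) = 0 := by push_cast at hi ⊢; omega
    have ih := d_Z_mem g k (Fin.tail c) (i + 1) (i + 1 + 1) rfl hj
    have hh := homotopy (ModuleCat.of A A) g (c 0) (rfl : i + 1 = i + 1) (rfl : i + 1 + 1 = i + 1 + 1)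
      (Wiebe.Z g k (Fin.tail c) (i + 1) hj)
    rw [Wiebe.Z, eq_sub_of_add_eq hh]
    refine Submodule.sub_mem _ (Submodule.smul_mem_smul (Ideal.subset_span ⟨0, rfl⟩) Submodule.mem_top) ?_
    have h2 := Submodule.mem_map_of_mem (f := h (ModuleCat.of A A) g (c 0) (i + 1) (i + 1 + 1) rfl) ih
    rw [Submodule.map_smul''] at h2
    exact Submodule.smul_mono (Ideal.span_mono (Set.range_comp_subset_range Fin.succ fun r => dot g (c r)))
      le_top h2

theorem kmap_proj_eq_zero (I : Ideal A) (l : List A) (i : ℤ) {z : (koszulCx (ModuleCat.of A A) l).X i}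
    (hz : z ∈ I • (⊤ : Submodule A ((koszulCx (ModuleCat.of A A) l).X i))) :
    (kmap (proj I) l).f i z = 0 := by
  refine Submodule.smul_induction_on hz (fun r hr w _ => ?_) (fun x y hx hy => ?_)
  · rw [map_smul]
    exact kills_of_mem I hr l i _
  · rw [map_add, hx, hy, add_zero]

/-- the differential of the iterated homotopy, modulo the later elements -/
theorem d_proj_Z (g : List A) (k : ℕ) (c : Fin (k + 1) → ℕ → A) (i j : ℤ) (hij : i + 1 = j)
    (hi : i + ((k + 1 : ℕ) : ℤ) = 0) (hj : j + (k : ℤ) = 0) :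
    (koszulCx (Mq (Ideal.span (Set.range fun r => dot g (Fin.tail c r)))) g).d i j
        ((kmap (proj _) g).f i (Wiebe.Z g (k + 1) c i hi)) =
      dot g (c 0) • (kmap (proj (Ideal.span (Set.range fun r => dot g (Fin.tail c r)))) g).f j
        (Wiebe.Z g k (Fin.tail c) j hj) := by
  subst hij
  have hh := homotopy (ModuleCat.of A A) g (c 0) (rfl : i + 1 = i + 1) (rfl : i + 1 + 1 = i + 1 + 1)
      (Wiebe.Z g k (Fin.tail c) (i + 1) hj)
  rw [kmap_d, Wiebe.Z, eq_sub_of_add_eq hh, map_sub, map_smul, sub_eq_self]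
  refine kmap_proj_eq_zero _ g _ ?_
  have h2 := Submodule.mem_map_of_mem (f := h (ModuleCat.of A A) g (c 0) (i + 1) (i + 1 + 1) rfl)
    (d_Z_mem g k (Fin.tail c) (i + 1) (i + 1 + 1) rfl hj)
  rw [Submodule.map_smul''] at h2
  exact Submodule.smul_mono le_rfl le_top h2

theorem staircase (g : List A) (hg : ∀ n : ℤ, n < 0 → IsZero ((koszulCx (ModuleCat.of A A) g).homology n)) :
    ∀ (k : ℕ) (c : Fin k → ℕ → A) (_ : RevReg fun r => dot g (c r)),
    (∀ (i j : ℤ), i + 1 = j → i + k < 0 → ∀ z : (koszulCx (Mq (Ideal.span (Set.range fun r => dot g (c r)))) g).X i,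
      (koszulCx (Mq (Ideal.span (Set.range fun r => dot g (c r)))) g).d i j z = 0 →
        ∃ w, (koszulCx (Mq (Ideal.span (Set.range fun r => dot g (c r)))) g).d (i - 1) i w = z) ∧
    (∀ (i j : ℤ), i + 1 = j → ∀ (hi : i + k = 0)
      (z : (koszulCx (Mq (Ideal.span (Set.range fun r => dot g (c r)))) g).X i),
      (koszulCx (Mq (Ideal.span (Set.range fun r => dot g (c r)))) g).d i j z = 0 →
        ∃ (q : A) (w : _), z = q • (kmap (proj _) g).f i (Wiebe.Z g k c i hi) +
          (koszulCx (Mq (Ideal.span (Set.range fun r => dot g (c r)))) g).d (i - 1) i w) ∧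
    (∀ (i : ℤ) (hi : i + k = 0) (q : A),
      (∃ w, (koszulCx (Mq (Ideal.span (Set.range fun r => dot g (c r)))) g).d (i - 1) i w =
        q • (kmap (proj _) g).f i (Wiebe.Z g k c i hi)) → q ∈ Ideal.ofList g)
  | 0, c, _ => by
    let I := Ideal.span (Set.range fun r => dot g (c r))
    have hI : I = ⊥ := by
      show Ideal.span _ = ⊥
      rw [Set.range_eq_empty, Ideal.span_empty]
    have hπi : Function.Injective (proj I) := by
      show Function.Injective I.mkQ
      rw [← LinearMap.ker_eq_bot, Submodule.ker_mkQ, hI]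
    have hπs : Function.Surjective (proj I) := Submodule.mkQ_surjective I
    have hki := fun n => kmap_injective (proj I) hπi g n
    have hks := fun n => kmap_surjective (proj I) hπs g n
    refine ⟨fun i j hij hlt z hz => ?_, fun i j hij hi z hz => ?_, fun i hi q hq => ?_⟩
    · obtain ⟨z, rfl⟩ := hks i z
      rw [kmap_d] at hz
      have hz0 : (koszulCx (ModuleCat.of A A) g).d i j z = 0 := hki j (hz.trans (map_zero _).symm)
      subst hij
      haveI := ModuleCat.isZero_iff_subsingleton.1 (hg i (by push_cast at hlt; omega))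
      obtain ⟨w, hw⟩ := (cl_eq_zero_iff _ (sub_add_cancel i 1) ⟨z, hz0⟩).mp (Subsingleton.elim _ _)
      exact ⟨(kmap (proj I) g).f (i - 1) w, by rw [kmap_d, hw]⟩
    · obtain ⟨z, rfl⟩ := hks i z
      have hi0 : i = 0 := by simpa using hi
      refine ⟨top _ g i hi0 z, 0, ?_⟩
      rw [map_zero, add_zero, ← map_smul]
      refine congrArg _ (top_injective g i hi0 ?_)
      rw [map_smul, Wiebe.Z, top_one, smul_eq_mul, mul_one]
    · obtain ⟨w, hw⟩ := hq
      obtain ⟨w, rfl⟩ := hks (i - 1) w
      rw [kmap_d, ← map_smul] at hw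
      have hi0 : i = 0 := by simpa using hi
      have h1 := congrArg (top _ g i hi0) (hki i hw)
      rw [map_smul, Wiebe.Z, top_one, smul_eq_mul, mul_one] at h1
      exact h1 ▸ top_d_mem g (i - 1) i (sub_add_cancel i 1) hi0 w
  | k + 1, c, hreg => by
    obtain ⟨hreg0, hreg1⟩ := hreg
    obtain ⟨ih1, ih2, ih3⟩ := staircase g hg k (Fin.tail c) hreg1
    let I := Ideal.span (Set.range fun r => dot g (c r))
    let I' := Ideal.span (Set.range fun r => dot g (Fin.tail c r))
    let a := dot g (c 0)
    have hle : I' ≤ I := Ideal.span_mono (Set.range_comp_subset_range Fin.succ fun r => dot g (c r))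
    have haI : a ∈ I := Ideal.subset_span ⟨0, rfl⟩
    let ν : Mq I' ⟶ Mq I := ModuleCat.ofHom (Submodule.factor hle)
    have hνs : Function.Surjective ν := Submodule.factor_surjective hle
    have hμi : Function.Injective (a • 𝟙 (Mq I')) := by
      refine (injective_iff_map_eq_zero _).mpr fun x hx => ?_
      obtain ⟨x, rfl⟩ := Submodule.Quotient.mk_surjective _ (x : A ⧸ I')
      exact (Submodule.Quotient.mk_eq_zero I').mpr
        (hreg0 x ((Submodule.Quotient.mk_eq_zero I').mp (hx : Submodule.Quotient.mk (a • x) = 0)))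
    have hex : Function.Exact (a • 𝟙 (Mq I')) ν := fun x => by
      obtain ⟨x, rfl⟩ := Submodule.Quotient.mk_surjective _ (x : A ⧸ I')
      constructor
      · intro hx
        have hx' : x ∈ I := (Submodule.Quotient.mk_eq_zero I).mp hx
        have hsplit : I = Ideal.span {a} ⊔ I' := by
          show Ideal.span _ = _
          rw [← Ideal.span_union, Set.singleton_union]
          congr 1
          ext y
          constructor
          · rintro ⟨r, rfl⟩
            refine Fin.cases (Or.inl rfl) (fun s => Or.inr ⟨s, rfl⟩) r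
          · rintro (rfl | ⟨s, rfl⟩)
            · exact ⟨0, rfl⟩
            · exact ⟨s.succ, rfl⟩
        rw [hsplit] at hx'
        obtain ⟨u, hu, v, hv, rfl⟩ := Submodule.mem_sup.mp hx'
        obtain ⟨y, rfl⟩ := Ideal.mem_span_singleton'.mp hu
        refine ⟨Submodule.Quotient.mk y, ?_⟩
        show Submodule.Quotient.mk (a * y) = Submodule.Quotient.mk (y * a + v)
        rw [Submodule.Quotient.eq, mul_comm a y, sub_add_cancel_left]
        exact neg_mem hv
      · rintro ⟨y, hy⟩
        obtain ⟨y, rfl⟩ := Submodule.Quotient.mk_surjective _ (y : A ⧸ I')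
        rw [← hy]
        show Submodule.Quotient.mk (a * y) = 0
        exact (Submodule.Quotient.mk_eq_zero I).mpr (Ideal.mul_mem_right _ _ haI)
    have hks := fun n => kmap_surjective ν hνs g n
    have hke := fun n => kmap_exact (a • 𝟙 (Mq I')) hex g n
    have hcancel : ∀ n (y : (koszulCx (Mq I') g).X n), a • y = 0 → y = 0 := fun n y hy =>
      kmap_injective _ hμi g n (by rw [kmap_smul_apply, map_zero]; exact hy)
    have hπ : ∀ n z, (kmap (proj I) g).f n z = (kmap ν g).f n ((kmap (proj I') g).f n z) := fun n z => by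
      rw [← ConcreteCategory.comp_apply, ← HomologicalComplex.comp_f, ← Groth.L07.KoszulBC.kmap_comp]
      rfl
    refine ⟨fun i j hij hlt z hz => ?_, fun i j hij hi z hz => ?_, fun i hi q hq => ?_⟩
    · obtain ⟨z, rfl⟩ := hks i z
      rw [kmap_d] at hz
      obtain ⟨y, hy⟩ := (hke j _).1 hz
      rw [kmap_smul_apply] at hy
      have hdy : (koszulCx (Mq I') g).d j (j + 1) y = 0 := hcancel _ _ (by
        rw [← map_smul, hy, ← ConcreteCategory.comp_apply, HomologicalComplex.d_comp_d]; rfl)
      obtain ⟨w, hw⟩ := ih1 j (j + 1) rfl (by push_cast at hlt; omega) y hdy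
      obtain rfl : j - 1 = i := by omega
      obtain ⟨v, hv⟩ := ih1 (j - 1) j hij (by push_cast at hlt ⊢; omega) (z - a • w)
        (by rw [map_sub, map_smul, hw, hy, sub_self])
      refine ⟨(kmap ν g).f _ v, ?_⟩
      rw [kmap_d, hv, map_sub, map_smul, kills_of_mem I haI, sub_zero]
    · obtain ⟨z, rfl⟩ := hks i z
      rw [kmap_d] at hz
      obtain ⟨y, hy⟩ := (hke j _).1 hz
      rw [kmap_smul_apply] at hy
      have hdy : (koszulCx (Mq I') g).d j (j + 1) y = 0 := hcancel _ _ (by
        rw [← map_smul, hy, ← ConcreteCategory.comp_apply, HomologicalComplex.d_comp_d]; rfl)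
      have hjk : j + (k : ℤ) = 0 := by push_cast at hi; omega
      obtain ⟨q, w, hw⟩ := ih2 j (j + 1) rfl hjk y hdy
      obtain rfl : j - 1 = i := by omega
      obtain ⟨v, hv⟩ := ih1 (j - 1) j hij (by push_cast at hi ⊢; omega)
        (z - q • (kmap (proj I') g).f (j - 1) (Wiebe.Z g (k + 1) c (j - 1) hi) - a • w) (by
          rw [map_sub, map_sub, map_smul, map_smul, d_proj_Z g k c (j - 1) j hij hi hjk, ← hy, hw,
            smul_add, smul_comm a q]
          abel)
      refine ⟨q, (kmap ν g).f _ v, ?_⟩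
      rw [kmap_d, hv, map_sub, map_sub, map_smul, map_smul, kills_of_mem I haI, sub_zero, ← hπ,
        add_sub_cancel]
    · obtain ⟨w, hw⟩ := hq
      obtain ⟨w, rfl⟩ := hks (i - 1) w
      have hjk : i + 1 + (k : ℤ) = 0 := by push_cast at hi; omega
      rw [kmap_d, hπ, ← map_smul, ← sub_eq_zero, ← map_sub] at hw
      obtain ⟨y, hy⟩ := (hke i _).1 hw
      rw [kmap_smul_apply] at hy
      have h1 := congrArg ((koszulCx (Mq I') g).d i (i + 1)) hy
      rw [map_smul, map_sub, map_smul, d_proj_Z g k c i (i + 1) rfl hi hjk, ← ConcreteCategory.comp_apply,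
        HomologicalComplex.d_comp_d] at h1
      refine ih3 (i + 1) hjk q ?_
      refine ⟨cast (congrArg (fun n => ((koszulCx (Mq I') g).X n : Type u)) (show i = i + 1 - 1 by omega)) (-y), ?_⟩
      have hcast : ∀ (n : ℤ) (e : i = n) (u : (koszulCx (Mq I') g).X i),
          (koszulCx (Mq I') g).d n (i + 1) (cast (congrArg (fun n => ((koszulCx (Mq I') g).X n : Type u)) e) u) =
            (koszulCx (Mq I') g).d i (i + 1) u := fun n e u => by subst e; rfl
      rw [hcast _ (by omega)]
      refine sub_eq_zero.mp (hcancel _ _ ?_)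
      rw [map_neg, smul_sub, smul_neg, h1, smul_comm a q]
      show -((0 : _) - _) - _ = (0 : _)
      rw [zero_sub, neg_neg, sub_self]

end Groth.L01.Wiebe
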