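import Groth.Agent.L01.Wiebe.Jacobian
import Groth.Prelude.Def_Disc
import Mathlib.RingTheory.Trace.Defs
import Mathlib.RingTheory.Ideal.AssociatedPrime.Localization
import Mathlib.RingTheory.Ideal.GoingUp
import Mathlib.RingTheory.HopkinsLevitzki
import Mathlib.LinearAlgebra.Dual.Lemmas
import Mathlib.RingTheory.FiniteStability
import Mathlib.RingTheory.OrzechProperty

/-!
Tate's trace formula for a finite free relative global complete intersection.
-/

set_option autoImplicit false
set_option linter.style.haveILetI false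
set_option linter.unusedSectionVars false
set_option backward.isDefEq.respectTransparency.types false
set_option maxSynthPendingDepth 3

universe u v

namespace Groth.L01.Wiebe

open TensorProduct

section Contract

variable {A : Type u} {B : Type v} [CommRing A] [CommRing B] [Algebra A B]

/-- contraction with a functional -/
noncomputable def con (l : B →ₗ[A] A) : B ⊗[A] B →ₗ[A] B := TensorProduct.lift ((LinearMap.lsmul A B).comp l)

theorem con_tmul (l : B →ₗ[A] A) (a b : B) : con l (a ⊗ₜ[A] b) = l a • b := rfl

theorem con_smul (b : B) (l : Disc.Omega A B) (z : B ⊗[A] B) :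
    con (b • l).toLinearMap z = con l.toLinearMap ((b ⊗ₜ[A] 1) * z) := by
  induction z using TensorProduct.induction_on with
  | zero => simp
  | add x y hx hy => simp [mul_add, hx, hy]
  | tmul a c => rw [Algebra.TensorProduct.tmul_mul_tmul, one_mul, con_tmul, con_tmul, Disc.Omega.smul_toLinearMap_apply]

theorem con_one_tmul (b : B) (l : B →ₗ[A] A) (z : B ⊗[A] B) :
    con l (((1 : B) ⊗ₜ[A] b) * z) = b * con l z := by
  induction z using TensorProduct.induction_on with
  | zero => simp
  | add x y hx hy => simp [mul_add, hx, hy]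
  | tmul a c => rw [Algebra.TensorProduct.tmul_mul_tmul, one_mul, con_tmul, con_tmul, mul_smul_comm]

theorem con_add (l l' : B →ₗ[A] A) (z : B ⊗[A] B) : con (l + l') z = con l z + con l' z := by
  induction z using TensorProduct.induction_on with
  | zero => simp
  | add x y hx hy => rw [map_add, map_add, map_add, hx, hy]; abel
  | tmul a c => rw [con_tmul, con_tmul, con_tmul, LinearMap.add_apply, add_smul]

theorem con_smul_scalar (r : A) (l : B →ₗ[A] A) (z : B ⊗[A] B) : con (r • l) z = r • con l z := by
  induction z using TensorProduct.induction_on with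
  | zero => simp
  | add x y hx hy => rw [map_add, map_add, smul_add, hx, hy]
  | tmul a c => rw [con_tmul, con_tmul, LinearMap.smul_apply, smul_assoc]

variable {ι : Type*} [Fintype ι] (e : Module.Basis ι A B)

theorem sum_tmul_con (z : B ⊗[A] B) : ∑ i, e i ⊗ₜ[A] con (e.coord i) z = z := by
  induction z using TensorProduct.induction_on with
  | zero => simp
  | add x y hx hy => simp only [map_add, TensorProduct.tmul_add, Finset.sum_add_distrib, hx, hy]
  | tmul a c =>
    simp only [con_tmul, Module.Basis.coord_apply, TensorProduct.tmul_smul, TensorProduct.smul_tmul']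
    rw [← TensorProduct.sum_tmul, e.sum_repr]

theorem lmul_eq (z : B ⊗[A] B) : Algebra.TensorProduct.lmul' (S := B) A z = ∑ i, e i * con (e.coord i) z := by
  conv_lhs => rw [← sum_tmul_con e z]
  simp

theorem trace_eq [Module.Free A B] [Module.Finite A B] :
    Disc.Omega.trace A B = ∑ i, e i • (⟨e.coord i⟩ : Disc.Omega A B) := by
  classical
  apply Disc.Omega.toLinearMap_injective
  ext x
  let ev : Disc.Omega A B →+ A :=
    { toFun := fun l => l.toLinearMap x, map_zero' := rfl, map_add' := fun _ _ => rfl }
  show Algebra.trace A B x = ev (∑ i, e i • (⟨e.coord i⟩ : Disc.Omega A B))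
  rw [map_sum, Algebra.trace_eq_matrix_trace e, Matrix.trace]
  refine Finset.sum_congr rfl fun i _ => ?_
  show _ = e.coord i (e i * x)
  rw [Matrix.diag_apply, Algebra.leftMulMatrix_eq_repr_mul, Module.Basis.coord_apply, mul_comm]

end Contract

variable {A : Type u} [CommRing A] {n : ℕ} (F : Fin n → MvPolynomial (Fin n) A)

theorem jac_span_fibre [Algebra.QuasiFinite A (Bq F)] (p : Ideal A) [p.IsMaximal]
    (y : MvPolynomial (Fin n) (Bq F))
    (hy : y * (coeffMat F).det ∈ Ideal.span (Set.range fun i => MvPolynomial.map (algebraMap A (Bq F)) (F i)) ⊔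
      RingHom.ker (MvPolynomial.map (Ideal.Quotient.mk (p.map (algebraMap A (Bq F)))) :
        MvPolynomial (Fin n) (Bq F) →+* MvPolynomial (Fin n) (Bq F ⧸ p.map (algebraMap A (Bq F))))) :
    MvPolynomial.eval (pt F) y ∈ p.map (algebraMap A (Bq F)) := by
  classical
  let B := Bq F
  let J := p.map (algebraMap A B)
  let k := A ⧸ p
  letI : Field k := Ideal.Quotient.field p
  let B' := B ⧸ J
  let Fk : Fin n → MvPolynomial (Fin n) k := fun i => MvPolynomial.map (Ideal.Quotient.mk p) (F i)
  let C := MvPolynomial (Fin n) k ⧸ Ideal.span (Set.range Fk)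
  let θ : B →+* C := Ideal.Quotient.lift _ ((Ideal.Quotient.mk (Ideal.span (Set.range Fk))).comp
    (MvPolynomial.map (Ideal.Quotient.mk p))) fun z hz => by
      rw [RingHom.comp_apply, Ideal.Quotient.eq_zero_iff_mem]
      have := Ideal.mem_map_of_mem (MvPolynomial.map (Ideal.Quotient.mk p)) hz
      rwa [Ideal.map_span, ← Set.range_comp] at this
  have hθ : Function.Surjective θ := Ideal.Quotient.lift_surjective_of_surjective _ _
    (Ideal.Quotient.mk_surjective.comp (MvPolynomial.map_surjective _ Ideal.Quotient.mk_surjective))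
  have hcomm : ∀ a : A, θ (algebraMap A B a) = algebraMap k C (Ideal.Quotient.mk p a) := fun a => by
    show Ideal.Quotient.mk _ (MvPolynomial.map (Ideal.Quotient.mk p) (MvPolynomial.C a)) = _
    rw [MvPolynomial.map_C]
    rfl
  let θ' : B →ₐ[A] C := { θ with commutes' := fun a => (hcomm a).trans (IsScalarTower.algebraMap_apply A k C a).symm }
  haveI hA : Algebra.QuasiFinite A C := Algebra.QuasiFinite.of_surjective_algHom θ' hθ
  haveI hk : Algebra.QuasiFinite k C := Algebra.QuasiFinite.of_restrictScalars A k C
  haveI : Algebra.QuasiFinite k (MvPolynomial (Fin n) k ⧸ Ideal.span (Set.range Fk)) := inferInstanceAs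
    (Algebra.QuasiFinite k C)
  have hkosz := isKoszulRegularSeq_of_isRelGCI (isRelGCI_of_quasiFinite Fk)
  have hkB : LCI.IsKoszulRegularSeq (MvPolynomial (Fin n) B')
      (List.ofFn fun i => MvPolynomial.map (algebraMap k B') (Fk i)) := isKoszulRegularSeq_mapC hkosz B'
  let ψ : MvPolynomial (Fin n) B →+* MvPolynomial (Fin n) B' := MvPolynomial.map (Ideal.Quotient.mk J)
  let x' : Fin n → B' := fun j => Ideal.Quotient.mk J (pt F j)
  have hψF : ∀ i, ψ (MvPolynomial.map (algebraMap A B) (F i)) = MvPolynomial.map (algebraMap k B') (Fk i) := fun i => by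
    show MvPolynomial.map (Ideal.Quotient.mk J) (MvPolynomial.map (algebraMap A B) (F i)) =
      MvPolynomial.map (algebraMap k B') (MvPolynomial.map (Ideal.Quotient.mk p) (F i))
    rw [MvPolynomial.map_map, MvPolynomial.map_map]
    rfl
  have hW := wiebe (fun i => MvPolynomial.map (algebraMap k B') (Fk i)) (fun j => MvPolynomial.X j - MvPolynomial.C (x' j))
    ((coeffMat F).map ψ) (fun i => by
      show MvPolynomial.map (algebraMap k B') (Fk i) = _
      rw [← hψF, coeffMat_spec, map_sum]
      refine Finset.sum_congr rfl fun j _ => ?_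
      simp [ψ, x', map_mul]) hkB (isKoszulRegularSeq_sub x') (ψ y)
  have h2 : MvPolynomial.eval x' (ψ y) = 0 := by
    rw [← RingHom.mem_ker, ← ker_eval]
    refine hW.2 ?_
    rw [show ((coeffMat F).map ψ).det = ψ (coeffMat F).det from (RingHom.map_det ψ _).symm, ← map_mul]
    obtain ⟨u, hu, v, hv, huv⟩ := Submodule.mem_sup.mp hy
    rw [← huv, map_add, show ψ v = 0 from RingHom.mem_ker.mp hv, add_zero]
    have := Ideal.mem_map_of_mem ψ hu
    rw [Ideal.map_span, ← Set.range_comp] at this
    rwa [show (ψ ∘ fun i => MvPolynomial.map (algebraMap A B) (F i)) = fun i => MvPolynomial.map (algebraMap k B') (Fk i)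
      from funext hψF] at this
  rw [← Ideal.Quotient.eq_zero_iff_mem, ← h2]
  show Ideal.Quotient.mk J (MvPolynomial.eval (pt F) y) = MvPolynomial.eval x' (MvPolynomial.map (Ideal.Quotient.mk J) y)
  clear hy hW h2
  induction y using MvPolynomial.induction_on with
  | C r => simp
  | add a b ha hb => simp [ha, hb]
  | mul_X a j ha => simp [ha, x']

/-- contraction of the diagonal generator -/
noncomputable def theta [Module.Flat A (Bq F)] (hF : LCI.IsKoszulRegularSeq (MvPolynomial (Fin n) A) (List.ofFn F)) :
    Disc.Omega A (Bq F) →ₗ[Bq F] Bq F where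
  toFun l := con l.toLinearMap (delta F)
  map_add' l l' := con_add _ _ _
  map_smul' b l := by
    rw [con_smul, RingHom.id_apply, smul_eq_mul, ← con_one_tmul]
    congr 1
    have h : ((b ⊗ₜ[A] (1 : Bq F)) - (1 : Bq F) ⊗ₜ[A] b) * delta F = 0 := by
      have hmem : delta F ∈ Submodule.annihilator (RingHom.ker (Algebra.TensorProduct.lmul' (S := Bq F) A)) := by
        rw [(annihilator_eq F hF).1]
        exact Ideal.mem_span_singleton_self _
      rw [mul_comm]
      exact Submodule.mem_annihilator.mp hmem _ (RingHom.mem_ker.mpr (by simp))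
    rwa [sub_mul, sub_eq_zero] at h

theorem exists_equiv [Module.Finite A (Bq F)] [Module.Free A (Bq F)] :
    ∃ e : Bq F ≃ₗ[Bq F] Disc.Omega A (Bq F), e (jac F) = Disc.Omega.trace A (Bq F) := by
  classical
  have hF := isKoszulRegularSeq_of_isRelGCI (isRelGCI_of_quasiFinite F)
  let B := Bq F
  let e := Module.Free.chooseBasis A B
  let Θ := theta F hF
  have htr : Θ (Disc.Omega.trace A B) = jac F := by
    rw [trace_eq e, map_sum, ← lmul_delta, lmul_eq e]
    refine Finset.sum_congr rfl fun i _ => ?_
    rw [map_smul]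
    rfl
  have hsurj : Function.Surjective Θ := by
    rw [← LinearMap.range_eq_top]
    by_contra hne
    obtain ⟨m, hm, hle⟩ := Ideal.exists_le_maximal (LinearMap.range Θ) hne
    let p := m.comap (algebraMap A B)
    haveI : p.IsMaximal := Ideal.isMaximal_comap_of_isIntegral_of_isMaximal m
    let J := p.map (algebraMap A B)
    have hJm : J ≤ m := Ideal.map_comap_le
    letI : Field (A ⧸ p) := Ideal.Quotient.field p
    haveI : Module.Finite (A ⧸ p) (B ⧸ J) := Module.Finite.of_restrictScalars_finite A (A ⧸ p) (B ⧸ J)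
    haveI : IsArtinianRing (B ⧸ J) := IsArtinianRing.of_finite (A ⧸ p) (B ⧸ J)
    let m' := m.map (Ideal.Quotient.mk J)
    haveI hm' : m'.IsMaximal := (Ideal.map_eq_top_or_isMaximal_of_surjective _ Ideal.Quotient.mk_surjective hm).resolve_left
      fun h => hm.ne_top (by
        have h1 := Ideal.comap_map_of_surjective' (Ideal.Quotient.mk J) Ideal.Quotient.mk_surjective m
        rw [h, Ideal.comap_top, Ideal.mk_ker, sup_eq_left.mpr hJm] at h1
        exact h1.symm)
    have hass : m' ∈ associatedPrimes (B ⧸ J) (B ⧸ J) := by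
      apply Module.associatedPrimes.minimalPrimes_annihilator_subset_associatedPrimes
      refine ⟨⟨hm'.isPrime, ?_⟩, fun Q hQ hQle => ?_⟩
      · intro z hz
        have hz0 : z = 0 := by simpa using Module.mem_annihilator.mp hz 1
        rw [hz0]
        exact Submodule.zero_mem _
      · haveI := hQ.1
        exact ((IsArtinianRing.isMaximal_of_isPrime Q).eq_of_le hm'.ne_top hQle).ge
    obtain ⟨hprime, s', hs'⟩ := isAssociatedPrime_iff.mp (show IsAssociatedPrime m' (B ⧸ J) from hass)
    obtain ⟨s, rfl⟩ := Ideal.Quotient.mk_surjective s'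
    have hsJ : s ∉ J := fun h => hm'.ne_top (by
      rw [hs', Ideal.Quotient.eq_zero_iff_mem.mpr h, Submodule.colon_singleton_zero])
    have hkill : ∀ t ∈ m, t * s ∈ J := fun t ht => by
      have h1 : Ideal.Quotient.mk J t ∈ m' := Ideal.mem_map_of_mem _ ht
      rw [hs', Submodule.mem_colon_singleton, Submodule.mem_bot] at h1
      rwa [← Ideal.Quotient.eq_zero_iff_mem, map_mul]
    refine hsJ ?_
    let z : B ⊗[A] B := ((1 : B) ⊗ₜ[A] s) * delta F
    have hcoord : ∀ i, con (e.coord i) z ∈ J := fun i => by
      rw [con_one_tmul, mul_comm]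
      exact hkill _ (hle ⟨⟨e.coord i⟩, rfl⟩)
    choose P hP using fun i => proj₂_surjective F (e i ⊗ₜ[A] (1 : B))
    let w : MvPolynomial (Fin n) B := ∑ i, P i * MvPolynomial.C (con (e.coord i) z)
    have hw : proj₂ F w = z := by
      rw [map_sum]
      conv_rhs => rw [← sum_tmul_con e z]
      refine Finset.sum_congr rfl fun i _ => ?_
      rw [map_mul, hP, proj₂_C, Algebra.TensorProduct.tmul_mul_tmul, mul_one, one_mul]
    have := jac_span_fibre F p (MvPolynomial.C s) (by
      rw [← sub_add_cancel (MvPolynomial.C s * (coeffMat F).det) w]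
      refine Submodule.add_mem_sup ?_ ?_
      · rw [← proj₂_eq_zero_iff, map_sub, map_mul, proj₂_C, hw]
        exact sub_self _
      · rw [RingHom.mem_ker, map_sum]
        refine Finset.sum_eq_zero fun i _ => ?_
        rw [map_mul, MvPolynomial.map_C, Ideal.Quotient.eq_zero_iff_mem.mpr (hcoord i), map_zero, mul_zero])
    rwa [MvPolynomial.eval_C] at this
  let Θa : Disc.Omega A B →+ B := Θ.toAddMonoidHom
  have hinj : Function.Injective Θ := by
    let D : B ≃ₗ[A] Module.Dual A B := e.toDualEquiv
    let E : B →ₗ[A] B :=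
      { toFun := fun b => Θ ⟨D b⟩
        map_add' := fun a b => by
          rw [map_add D]
          exact map_add Θ (⟨D a⟩ : Disc.Omega A B) ⟨D b⟩
        map_smul' := fun a b => by
          rw [map_smul D, RingHom.id_apply]
          show con (a • D b) (delta F) = a • con (D b) (delta F)
          exact con_smul_scalar a (D b) (delta F) }
    have hE : Function.Surjective E := fun b => by
      obtain ⟨l, hl⟩ := hsurj b
      exact ⟨D.symm l.toLinearMap, by show Θ ⟨D (D.symm l.toLinearMap)⟩ = b; rw [LinearEquiv.apply_symm_apply]; exact hl⟩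
    have hEi := OrzechProperty.injective_of_surjective_endomorphism E hE
    intro l l' h
    have h1 : D.symm l.toLinearMap = D.symm l'.toLinearMap := hEi (by
      show Θ ⟨D (D.symm l.toLinearMap)⟩ = Θ ⟨D (D.symm l'.toLinearMap)⟩
      rw [LinearEquiv.apply_symm_apply, LinearEquiv.apply_symm_apply]
      exact h)
    exact Disc.Omega.toLinearMap_injective (D.symm.injective h1)
  refine ⟨(LinearEquiv.ofBijective Θ ⟨hinj, hsurj⟩).symm, ?_⟩
  rw [LinearEquiv.symm_apply_eq, LinearEquiv.ofBijective_apply, htr]

end Groth.L01.Wiebe
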